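/-
A cubic field of three by three matrices: scalars, centralisers, and the classes of points and lines.
-/
import Cfsg.Agent.Lib.MaxCl.SLThree.Elation
import Cfsg.Agent.Lib.MaxCl.FieldSubalgebra
import Cfsg.Agent.Lib.Aschbacher.FieldNorm

set_option autoImplicit false
set_option linter.unusedSectionVars false

namespace Cfsg.Agent.MaxCl.SLThree.Cubic

open scoped MatrixGroups Matrix LinearAlgebra.Projectivization
open Module (finrank)

variable {F : Type*} [Field F] [Fintype F] {K : Subalgebra F (Matrix (Fin 3) (Fin 3) F)}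

/-- Being a scalar matrix. -/
def IsScal (A : Matrix (Fin 3) (Fin 3) F) : Prop := ∃ c : F, A = c • 1

theorem isScal_of_eigen {A : Matrix (Fin 3) (Fin 3) F} {c : F} (h : ∀ x, A *ᵥ x = c • x) : IsScal A :=
  ⟨c, Matrix.toLin'.injective (LinearMap.ext fun x => by simp [h, Matrix.smul_mulVec])⟩

variable (hK : Cfsg.Geo.IsFieldSubalgebra 3 K)
include hK

theorem ne_zero_mulVec {k : K} (hk : k ≠ 0) {v : Fin 3 → F} (hv : v ≠ 0) :
    (k : Matrix (Fin 3) (Fin 3) F) *ᵥ v ≠ 0 := fun h =>
  hk (Aschbacher.evalAt_injective hK hv (h.trans (map_zero (Aschbacher.evalAt K v)).symm))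

theorem det_ne_zero {k : K} (hk : k ≠ 0) : (k : Matrix (Fin 3) (Fin 3) F).det ≠ 0 := by
  obtain ⟨y, -, hy⟩ := hK.inv k k.2 fun h => hk (Subtype.ext h)
  exact fun h => by simpa [Matrix.det_mul, h] using congrArg Matrix.det hy

theorem exists_mulVec (v : Fin 3 → F) {w : Fin 3 → F} (hw : w ≠ 0) :
    ∃ k : K, (k : Matrix (Fin 3) (Fin 3) F) *ᵥ w = v :=
  (Aschbacher.evalAt_bijective (by simpa using hK) hw).2 v

theorem mulVec_inj {k l : K} {v : Fin 3 → F} (hv : v ≠ 0)
    (h : (k : Matrix (Fin 3) (Fin 3) F) *ᵥ v = (l : Matrix (Fin 3) (Fin 3) F) *ᵥ v) : k = l :=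
  Aschbacher.evalAt_injective hK hv h

theorem isDomain : IsDomain K := by
  haveI : Nontrivial K := ⟨⟨0, 1, fun h => zero_ne_one (α := Matrix (Fin 3) (Fin 3) F) (congrArg Subtype.val h)⟩⟩
  haveI : NoZeroDivisors K := ⟨fun {a b} h => or_iff_not_imp_left.2 fun ha => Subtype.ext (by
    obtain ⟨y, hy, hay⟩ := hK.inv a a.2 fun e => ha (Subtype.ext e)
    have e := congrArg (fun m : Matrix (Fin 3) (Fin 3) F => y * m) (congrArg Subtype.val h)
    simpa [← mul_assoc, hK.comm y hy a a.2, hay] using e)⟩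
  exact NoZeroDivisors.to_isDomain K

/-- A subalgebra of the field with a non-scalar element is everything. -/
theorem eq_top_of_mem {A : Subalgebra F K} {k : K} (hk : k ∈ A) (hns : ¬ IsScal (k : Matrix (Fin 3) (Fin 3) F)) :
    A = ⊤ := by
  haveI := isDomain hK
  haveI := Subalgebra.isSimpleOrder_of_finrank_prime F K (by rw [hK.finrank_eq]; norm_num)
  refine (eq_bot_or_eq_top A).resolve_left fun h => hns ?_
  rw [h, Algebra.mem_bot] at hk
  obtain ⟨c, rfl⟩ := hk
  exact ⟨c, by simp [Algebra.algebraMap_eq_smul_one]⟩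

/-- An element of the field stabilising a proper subspace is a scalar. -/
theorem isScal_of_stab {k : K} {W : Submodule F (Fin 3 → F)} (h0 : W ≠ ⊥) (h1 : W ≠ ⊤)
    (h : ∀ w ∈ W, (k : Matrix (Fin 3) (Fin 3) F) *ᵥ w ∈ W) : IsScal (k : Matrix (Fin 3) (Fin 3) F) := by
  by_contra hns
  let A : Subalgebra F K :=
    { carrier := {x | ∀ w ∈ W, (x : Matrix (Fin 3) (Fin 3) F) *ᵥ w ∈ W}
      mul_mem' := fun {a b} ha hb w hw => by
        rw [Subalgebra.coe_mul, ← Matrix.mulVec_mulVec]; exact ha _ (hb w hw)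
      add_mem' := fun {a b} ha hb w hw => by
        rw [Subalgebra.coe_add, Matrix.add_mulVec]; exact W.add_mem (ha w hw) (hb w hw)
      algebraMap_mem' := fun c w hw => by
        simpa [Algebra.algebraMap_eq_smul_one, Matrix.smul_mulVec] using W.smul_mem c hw }
  have hA := eq_top_of_mem hK (A := A) h hns
  obtain ⟨w, hw, hw0⟩ := Submodule.exists_mem_ne_zero_of_ne_bot h0
  refine h1 (eq_top_iff.2 fun v _ => ?_)
  obtain ⟨l, rfl⟩ := exists_mulVec hK v hw0
  exact (show l ∈ A by rw [hA]; exact Algebra.mem_top) w hw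

/-- The centraliser of a non-scalar element of the field is the field. -/
theorem mem_of_commute {k : K} (hns : ¬ IsScal (k : Matrix (Fin 3) (Fin 3) F)) {A : Matrix (Fin 3) (Fin 3) F}
    (h : A * (k : Matrix (Fin 3) (Fin 3) F) = (k : Matrix (Fin 3) (Fin 3) F) * A) : A ∈ K := by
  let S : Subalgebra F K := (Subalgebra.centralizer F {A}).comap K.val
  have hS := eq_top_of_mem hK (A := S) (k := k)
    (by simpa [S, Subalgebra.mem_centralizer_iff] using h) hns
  have hcomm : ∀ l : K, A * (l : Matrix (Fin 3) (Fin 3) F) = (l : Matrix (Fin 3) (Fin 3) F) * A := fun l => by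
    have : l ∈ S := hS ▸ Algebra.mem_top
    simpa [S, Subalgebra.mem_centralizer_iff] using this
  have hv : (Pi.single 0 1 : Fin 3 → F) ≠ 0 := fun e => by simpa using congrFun e 0
  obtain ⟨a, ha⟩ := exists_mulVec hK (A *ᵥ (Pi.single 0 1)) hv
  have e : A = a := Matrix.toLin'.injective (LinearMap.ext fun x => by
    obtain ⟨l, rfl⟩ := exists_mulVec hK x hv
    rw [Matrix.toLin'_apply, Matrix.toLin'_apply, Matrix.mulVec_mulVec, hcomm, ← Matrix.mulVec_mulVec, ← ha,
      Matrix.mulVec_mulVec, Matrix.mulVec_mulVec, hK.comm _ l.2 _ a.2])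
  rw [e]; exact a.2

/-- The unit of a non-zero element. -/
noncomputable def unit {k : K} (hk : k ≠ 0) : GL (Fin 3) F :=
  Matrix.GeneralLinearGroup.mkOfDetNeZero _ (det_ne_zero hK hk)

theorem unit_val {k : K} (hk : k ≠ 0) : ((unit hK hk : GL (Fin 3) F) : Matrix (Fin 3) (Fin 3) F) = k := rfl

theorem act_unit {k : K} (hk : k ≠ 0) (x : Fin 3 → F) : act (unit hK hk) x = (k : Matrix (Fin 3) (Fin 3) F) *ᵥ x := by
  rw [act_apply, unit_val]

theorem mem_normalizer_of_mem {g : GL (Fin 3) F} (hg : (g : Matrix (Fin 3) (Fin 3) F) ∈ K) :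
    g ∈ Cfsg.Geo.subalgebraNormalizer K := by
  refine (ExtF.mem_normalizer_iff K g).2 fun k => ⟨k, fun x => ?_⟩
  rw [act_apply, act_apply, Matrix.mulVec_mulVec, Matrix.mulVec_mulVec, hK.comm _ hg _ k.2]

/-- The group of cube classes. -/
abbrev Cls (F : Type*) [Field F] := Fˣ ⧸ (powMonoidHom 3 : Fˣ →* Fˣ).range

/-- The field element of a vector. -/
noncomputable def kOf (v : Fin 3 → F) : K :=
  (exists_mulVec hK v (w := Pi.single 0 1) (fun e => by simpa using congrFun e 0)).choose

theorem kOf_spec (v : Fin 3 → F) : ((kOf hK v : K) : Matrix (Fin 3) (Fin 3) F) *ᵥ (Pi.single 0 1) = v :=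
  (exists_mulVec hK v (w := Pi.single 0 1) (fun e => by simpa using congrFun e 0)).choose_spec

theorem kOf_ne {v : Fin 3 → F} (hv : v ≠ 0) : kOf hK v ≠ 0 := fun h => hv (by
  rw [← kOf_spec hK v, h, ZeroMemClass.coe_zero, Matrix.zero_mulVec])

theorem kOf_mulVec (k : K) (v : Fin 3 → F) :
    kOf hK ((k : Matrix (Fin 3) (Fin 3) F) *ᵥ v) = k * kOf hK v :=
  mulVec_inj hK (v := Pi.single 0 1) (fun e => by simpa using congrFun e 0) (by
    rw [kOf_spec, Subalgebra.coe_mul, ← Matrix.mulVec_mulVec, kOf_spec])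

/-- The class of a non-zero element. -/
noncomputable def clK {k : K} (hk : k ≠ 0) : Cls F := QuotientGroup.mk (Units.mk0 _ (det_ne_zero hK hk))

theorem clK_mul {k l : K} (hk : k ≠ 0) (hl : l ≠ 0) (hkl : k * l ≠ 0) :
    clK hK hkl = clK hK hk * clK hK hl := by
  rw [clK, clK, clK, ← QuotientGroup.mk_mul]
  exact congrArg _ (Units.ext (by simp [Matrix.det_mul]))

theorem clK_congr {k l : K} (hk : k ≠ 0) (hl : l ≠ 0) (h : k = l) : clK hK hk = clK hK hl := by subst h; rfl

/-- The class of a point. -/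
noncomputable def cls (P : ℙ F (Fin 3 → F)) : Cls F := clK hK (kOf_ne hK P.rep_nonzero)

theorem cls_mk {v : Fin 3 → F} (hv : v ≠ 0) :
    cls hK (Projectivization.mk F v hv) = clK hK (kOf_ne hK hv) := by
  obtain ⟨a, ha⟩ := Projectivization.exists_smul_eq_mk_rep F v hv
  have hk : kOf hK (Projectivization.mk F v hv).rep = (a : F) • kOf hK v :=
    mulVec_inj hK (v := Pi.single 0 1) (fun e => by simpa using congrFun e 0) (by
      rw [kOf_spec, Subalgebra.coe_smul, Matrix.smul_mulVec, kOf_spec, ← ha, Units.smul_def])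
  rw [cls, clK, clK, QuotientGroup.eq]
  refine ⟨a⁻¹, Units.ext ?_⟩
  simp [hk, Matrix.det_smul, mul_comm, mul_assoc, det_ne_zero hK (kOf_ne hK hv)]

/-- Multiplication by a field element on points. -/
noncomputable def mulP {k : K} (hk : k ≠ 0) : ℙ F (Fin 3 → F) → ℙ F (Fin 3 → F) :=
  Projectivization.map (act (unit hK hk)) (act_injective _)

theorem mulP_bijective {k : K} (hk : k ≠ 0) : Function.Bijective (mulP hK hk) :=
  Finite.injective_iff_bijective.1 (Projectivization.map_injective _ _)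

theorem cls_mulP {k : K} (hk : k ≠ 0) (P : ℙ F (Fin 3 → F)) : cls hK (mulP hK hk P) = clK hK hk * cls hK P := by
  induction P using Projectivization.ind with
  | h v hv =>
    rw [mulP, Projectivization.map_mk, cls_mk, cls_mk]
    have e : kOf hK (act (unit hK hk) v) = k * kOf hK v := by rw [act_unit, kOf_mulVec]
    rw [← clK_mul hK hk (kOf_ne hK hv) (e ▸ kOf_ne hK fun h => hv (act_injective _ (h.trans (map_zero _).symm)))]
    exact clK_congr hK _ _ e

theorem pow_det (k : K) : ((k : Matrix (Fin 3) (Fin 3) F).det) • (1 : Matrix (Fin 3) (Fin 3) F) =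
    (k : Matrix (Fin 3) (Fin 3) F) ^ (Fintype.card F ^ 2 + Fintype.card F + 1) := by
  rw [Aschbacher.det_smul_one_eq_pow (by simpa using hK) k.2, Fintype.card_fin]
  congr 1
  have hq : 1 < Fintype.card F := Fintype.one_lt_card
  obtain ⟨m, hm⟩ : ∃ m, Fintype.card F = m + 1 := ⟨_, (Nat.succ_pred_eq_of_pos (by omega)).symm⟩
  rw [hm, Nat.add_sub_cancel]
  refine Nat.div_eq_of_eq_mul_left (by omega) ?_
  have : (m + 1) ^ 3 = ((m + 1) ^ 2 + (m + 1) + 1) * m + 1 := by ring
  omega

/-- Every non-zero scalar is a determinant. -/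
theorem exists_det (a : Fˣ) : ∃ k : K, k ≠ 0 ∧ (k : Matrix (Fin 3) (Fin 3) F).det = a := by
  classical
  haveI := isDomain hK
  haveI : Finite K := Finite.of_injective (fun k : K => (k : Matrix (Fin 3) (Fin 3) F)) Subtype.val_injective
  haveI : Fintype K := Fintype.ofFinite K
  obtain ⟨f, hf⟩ : ∃ f : Kˣ → Fˣ, ∀ k, (f k : F) = ((k : K) : Matrix (Fin 3) (Fin 3) F).det :=
    ⟨fun k => Units.mk0 _ (det_ne_zero hK k.ne_zero), fun k => rfl⟩
  letI : CommRing K := { (inferInstance : Ring K) with mul_comm := fun x y => Subtype.ext (hK.comm _ x.2 _ y.2) }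
  have hfib : ∀ b ∈ Finset.univ.image f, (Finset.univ.filter fun k => f k = b).card ≤
      Fintype.card F ^ 2 + Fintype.card F + 1 := by
    intro b _
    refine le_trans (Finset.card_le_card_of_injOn (fun k : Kˣ => (k : K))
      (t := ((Polynomial.X ^ (Fintype.card F ^ 2 + Fintype.card F + 1) -
        Polynomial.C (algebraMap F K b)).roots.toFinset)) (fun k hk => ?_) (fun k _ l _ h => Units.ext h)) ?_
    · simp only [Finset.coe_filter, Finset.mem_univ, true_and, Set.mem_ofPred_eq] at hk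
      simp only [Finset.mem_coe, Multiset.mem_toFinset]
      rw [Polynomial.mem_roots (Polynomial.X_pow_sub_C_ne_zero (by omega) _)]
      simp only [Polynomial.IsRoot, Polynomial.eval_sub, Polynomial.eval_pow, Polynomial.eval_X, Polynomial.eval_C,
        sub_eq_zero]
      refine Subtype.ext ?_
      rw [SubmonoidClass.coe_pow, ← pow_det hK, ← hk, hf]
      simp [Algebra.algebraMap_eq_smul_one]
    · exact (Multiset.toFinset_card_le _).trans ((Polynomial.card_roots' _).trans
        (le_of_eq (Polynomial.natDegree_X_pow_sub_C)))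
  have hcard := Finset.card_le_mul_card_image (Finset.univ : Finset Kˣ) _ hfib
  have hu : Fintype.card Kˣ = Fintype.card K - 1 := by
    have hb : Function.Bijective fun u : Kˣ => (⟨u, u.ne_zero⟩ : {k : K // k ≠ 0}) := by
      refine ⟨fun a b h => Units.ext (congrArg Subtype.val h), fun ⟨k, hk⟩ => ?_⟩
      obtain ⟨y, hy, hy1⟩ := hK.inv k k.2 fun e => hk (Subtype.ext e)
      exact ⟨⟨k, ⟨y, hy⟩, Subtype.ext hy1, Subtype.ext ((hK.comm y hy k k.2).trans hy1)⟩, rfl⟩
    rw [Fintype.card_of_bijective hb, Fintype.card_subtype_compl, Fintype.card_subtype_eq]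
  rw [Finset.card_univ, hu] at hcard
  have hKc : Fintype.card K = Fintype.card F ^ 3 := by
    rw [Module.card_eq_pow_finrank (K := F) (V := K), hK.finrank_eq]
  have himg : Finset.univ.image f = Finset.univ := by
    refine Finset.eq_univ_of_card _ (le_antisymm (Finset.card_le_univ _) ?_)
    rw [Fintype.card_units]
    rw [hKc] at hcard
    have hq : 1 < Fintype.card F := Fintype.one_lt_card
    obtain ⟨m, hm⟩ : ∃ m, Fintype.card F = m + 1 := ⟨_, (Nat.succ_pred_eq_of_pos (by omega)).symm⟩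
    rw [hm] at hcard ⊢
    rw [show (m + 1) ^ 3 = ((m + 1) ^ 2 + (m + 1) + 1) * m + 1 by ring, Nat.add_sub_cancel] at hcard
    rw [Nat.add_sub_cancel]
    exact Nat.le_of_mul_le_mul_left hcard (by positivity)
  obtain ⟨k, -, hk⟩ := Finset.mem_image.1 (himg ▸ Finset.mem_univ a)
  exact ⟨k, k.ne_zero, by rw [← hf, hk]⟩

theorem exists_clK (s : Cls F) : ∃ (k : K) (hk : k ≠ 0), clK hK hk = s := by
  obtain ⟨a, rfl⟩ := QuotientGroup.mk_surjective s
  obtain ⟨k, hk, hka⟩ := exists_det hK a
  exact ⟨k, hk, congrArg _ (Units.ext hka)⟩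

/-- All classes of points have the same number of elements. -/
theorem card_cls (s : Cls F) :
    Nat.card {P : ℙ F (Fin 3 → F) // cls hK P = s} = Nat.card {P : ℙ F (Fin 3 → F) // cls hK P = 1} := by
  obtain ⟨k, hk, rfl⟩ := exists_clK hK s
  refine (Nat.card_congr (Equiv.subtypeEquiv (Equiv.ofBijective _ (mulP_bijective hK hk)) fun P => ?_)).symm
  show cls hK P = 1 ↔ cls hK (mulP hK hk P) = _
  rw [cls_mulP]
  exact mul_eq_left.symm

theorem card_mul : Nat.card (Cls F) * Nat.card {P : ℙ F (Fin 3 → F) // cls hK P = 1} =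
    Fintype.card F ^ 2 + Fintype.card F + 1 := by
  classical
  haveI : Fintype (Cls F) := Fintype.ofFinite _
  have h := Projectivization.card_of_finrank F (Fin 3 → F) (n := 3) (by simp)
  rw [← Nat.card_congr (Equiv.sigmaFiberEquiv (cls hK)), Nat.card_sigma] at h
  simp only [card_cls hK] at h
  rw [Finset.sum_const, Finset.card_univ, smul_eq_mul, ← Nat.card_eq_fintype_card] at h
  rw [h]
  simp [Finset.sum_range_succ, Nat.card_eq_fintype_card]
  ring

omit hK in
theorem card_Cls : Nat.card (Cls F) = Nat.gcd (Fintype.card F - 1) 3 := by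
  classical
  rw [← Fintype.card_units (α := F), ← Nat.card_eq_fintype_card (α := Fˣ), ← IsCyclic.index_powMonoidHom_range]
  rfl

/-- An element of the special linear group in the field with given values. -/
theorem exists_det_one {v w : Fin 3 → F} (hv : v ≠ 0) (hw : w ≠ 0)
    (h : cls hK (Projectivization.mk F v hv) = cls hK (Projectivization.mk F w hw)) :
    ∃ (g : GL (Fin 3) F) (r : F), g ∈ Cfsg.Geo.specialLinear (Fin 3) F ∧
      (g : Matrix (Fin 3) (Fin 3) F) ∈ K ∧ r ≠ 0 ∧ act g v = r • w := by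
  rw [cls_mk, cls_mk, clK, clK, QuotientGroup.eq] at h
  obtain ⟨a, ha⟩ := h
  obtain ⟨l, hl⟩ := exists_mulVec hK w hv
  have hl0 : l ≠ 0 := by rintro rfl; simp at hl; exact hw hl.symm
  have hdet : (l : Matrix (Fin 3) (Fin 3) F).det = (a : F) ^ 3 := by
    have e : kOf hK w = l * kOf hK v := by rw [← hl, kOf_mulVec]
    have := congrArg (fun u : Fˣ => (u : F)) ha
    simp only [powMonoidHom_apply, Units.val_pow_eq_pow_val, Units.val_mul, Units.val_inv_eq_inv_val,
      Units.val_mk0, e, Subalgebra.coe_mul, Matrix.det_mul] at this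
    rw [this]
    field_simp [det_ne_zero hK (kOf_ne hK hv)]
  have hk : (a⁻¹ : F) • l ≠ 0 := smul_ne_zero (inv_ne_zero a.ne_zero) hl0
  refine ⟨unit hK hk, (a⁻¹ : F), MonoidHom.mem_ker.2 (Units.ext ?_), ((a⁻¹ : F) • l).2, inv_ne_zero a.ne_zero, ?_⟩
  · rw [Matrix.GeneralLinearGroup.val_det_apply, unit_val, Subalgebra.coe_smul, Matrix.det_smul, hdet,
      Fintype.card_fin, ← mul_pow, inv_mul_cancel₀ a.ne_zero]
    simp
  · rw [act_unit, Subalgebra.coe_smul, Matrix.smul_mulVec, hl]

end Cfsg.Agent.MaxCl.SLThree.Cubic
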