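/-
Points and lines of the plane through a cubic field: the numbers of points of each class on a line.
-/
import Cfsg.Agent.Lib.MaxCl.SLThree.Cubic.Field

set_option autoImplicit false
set_option linter.unusedSectionVars false

namespace Cfsg.Agent.MaxCl.SLThree.Cubic

open scoped MatrixGroups Matrix LinearAlgebra.Projectivization
open Module (finrank)

variable {F : Type*} [Field F] [Fintype F] {K : Subalgebra F (Matrix (Fin 3) (Fin 3) F)}
/-- The functional of a field element. -/
noncomputable def lnMap : K →ₗ[F] ((Fin 3 → F) →ₗ[F] F) where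
  toFun k := LinearMap.proj 0 ∘ₗ Matrix.toLin' (k : Matrix (Fin 3) (Fin 3) F)
  map_add' a b := by simp [LinearMap.comp_add]
  map_smul' c a := by simp [LinearMap.comp_smul]

theorem lnMap_apply (k : K) (v : Fin 3 → F) :
    lnMap k v = ((k : Matrix (Fin 3) (Fin 3) F) *ᵥ v) 0 := rfl

variable (hK : Cfsg.Geo.IsFieldSubalgebra 3 K)
include hK

theorem lnMap_bijective : Function.Bijective (lnMap (K := K)) := by
  have hinj : Function.Injective (lnMap (K := K)) := by
    rw [injective_iff_map_eq_zero]
    intro k hk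
    by_contra h0
    obtain ⟨v, hv⟩ := (Finite.injective_iff_surjective (α := Fin 3 → F)
      (f := act (unit hK h0))).1 (act_injective _) (Pi.single 0 1)
    have := congrArg (fun f : (Fin 3 → F) →ₗ[F] F => f v) hk
    simp only [lnMap_apply, ← act_unit hK h0, hv, LinearMap.zero_apply, Pi.single_eq_same] at this
    exact one_ne_zero this
  have hfin : FiniteDimensional F K := Module.finite_of_finrank_pos (by rw [hK.finrank_eq]; norm_num)
  exact ⟨hinj, (LinearMap.injective_iff_surjective_of_finrank_eq_finrank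
    (by rw [hK.finrank_eq, Subspace.dual_finrank_eq, Module.finrank_pi, Fintype.card_fin])).1 hinj⟩

/-- The field element of a functional. -/
noncomputable def kL (φ : (Fin 3 → F) →ₗ[F] F) : K := ((lnMap_bijective hK).2 φ).choose

theorem kL_spec (φ : (Fin 3 → F) →ₗ[F] F) : lnMap (kL hK φ) = φ := ((lnMap_bijective hK).2 φ).choose_spec

theorem kL_ne {φ : (Fin 3 → F) →ₗ[F] F} (hφ : φ ≠ 0) : kL hK φ ≠ 0 := fun h => hφ (by
  rw [← kL_spec hK φ, h, map_zero])

theorem kL_lnMap (k : K) : kL hK (lnMap k) = k := (lnMap_bijective hK).1 (kL_spec hK _)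

/-- The class of a line. -/
noncomputable def clsL (L : ℙ F ((Fin 3 → F) →ₗ[F] F)) : Cls F := clK hK (kL_ne hK L.rep_nonzero)

theorem clK_smul {k : K} {a : F} (ha : a ≠ 0) (hk : k ≠ 0) (hak : a • k ≠ 0) : clK hK hak = clK hK hk := by
  rw [clK, clK, QuotientGroup.eq]
  refine ⟨(Units.mk0 a ha)⁻¹, Units.ext ?_⟩
  simp [Matrix.det_smul, mul_comm, mul_assoc, det_ne_zero hK hk]

theorem clsL_mk {φ : (Fin 3 → F) →ₗ[F] F} (hφ : φ ≠ 0) :
    clsL hK (Projectivization.mk F φ hφ) = clK hK (kL_ne hK hφ) := by
  obtain ⟨a, ha⟩ := Projectivization.exists_smul_eq_mk_rep F φ hφ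
  have e : kL hK (Projectivization.mk F φ hφ).rep = (a : F) • kL hK φ :=
    (lnMap_bijective hK).1 (by rw [map_smul, kL_spec, kL_spec, ← ha, Units.smul_def])
  exact (clK_congr hK _ (smul_ne_zero a.ne_zero (kL_ne hK hφ)) e).trans (clK_smul hK a.ne_zero _ _)

/-- The number of points of a class on the first coordinate line. -/
noncomputable def num (s : Cls F) : ℕ := Nat.card {P : ℙ F (Fin 3 → F) // P.rep 0 = 0 ∧ cls hK P = s}

omit hK in
theorem apply_rep_iff {V : Type*} [AddCommGroup V] [Module F V] (f : V →ₗ[F] F) {v : V} (hv : v ≠ 0) :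
    f (Projectivization.mk F v hv).rep = 0 ↔ f v = 0 := by
  obtain ⟨a, ha⟩ := Projectivization.exists_smul_eq_mk_rep F v hv
  rw [← ha, Units.smul_def, map_smul, smul_eq_mul]
  simp

theorem card_line {φ : (Fin 3 → F) →ₗ[F] F} (hφ : φ ≠ 0) (s : Cls F) :
    Nat.card {P : ℙ F (Fin 3 → F) // φ P.rep = 0 ∧ cls hK P = s} =
      num hK (clK hK (kL_ne hK hφ) * s) := by
  refine Nat.card_congr (Equiv.subtypeEquiv (Equiv.ofBijective _ (mulP_bijective hK (kL_ne hK hφ))) fun P => ?_)
  show _ ↔ (mulP hK (kL_ne hK hφ) P).rep 0 = 0 ∧ cls hK (mulP hK (kL_ne hK hφ) P) = _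
  rw [cls_mulP, mul_right_inj]
  refine and_congr_left fun _ => ?_
  induction P using Projectivization.ind with
  | h v hv =>
    rw [apply_rep_iff, mulP, Projectivization.map_mk]
    refine Iff.trans ?_ (apply_rep_iff (LinearMap.proj 0 : (Fin 3 → F) →ₗ[F] F) _).symm
    rw [LinearMap.proj_apply, act_unit, ← lnMap_apply, kL_spec]

theorem cls_one {h : (Pi.single 0 1 : Fin 3 → F) ≠ 0} : cls hK (Projectivization.mk F _ h) = 1 := by
  rw [cls_mk, clK]
  have e : kOf hK (Pi.single 0 1) = 1 := mulVec_inj hK h (by rw [kOf_spec, Subalgebra.coe_one, Matrix.one_mulVec])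
  rw [QuotientGroup.eq_one_iff]
  exact ⟨1, Units.ext (by simp [e])⟩

/-- Lines of a class through a point. -/
theorem card_pencil {v : Fin 3 → F} (hv : v ≠ 0) (t : Cls F) :
    Nat.card {L : ℙ F ((Fin 3 → F) →ₗ[F] F) // L.rep v = 0 ∧ clsL hK L = t} =
      num hK (t * cls hK (Projectivization.mk F v hv)) := by
  classical
  -- a line is sent to the image of the point
  let f : ℙ F ((Fin 3 → F) →ₗ[F] F) → ℙ F (Fin 3 → F) := fun L =>
    mulP hK (kL_ne hK L.rep_nonzero) (Projectivization.mk F v hv)
  have hf : ∀ φ (hφ : φ ≠ 0), f (Projectivization.mk F φ hφ) =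
      Projectivization.mk F ((kL hK φ : Matrix (Fin 3) (Fin 3) F) *ᵥ v) (ne_zero_mulVec hK (kL_ne hK hφ) hv) := by
    intro φ hφ
    obtain ⟨a, ha⟩ := Projectivization.exists_smul_eq_mk_rep F φ hφ
    simp only [f, mulP, Projectivization.map_mk]
    rw [Projectivization.mk_eq_mk_iff']
    refine ⟨(a : F), ?_⟩
    have e : kL hK (Projectivization.mk F φ hφ).rep = (a : F) • kL hK φ :=
      (lnMap_bijective hK).1 (by rw [map_smul, kL_spec, kL_spec, ← ha, Units.smul_def])
    rw [act_unit, e, Subalgebra.coe_smul, Matrix.smul_mulVec]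
  have hbij : Function.Bijective f := by
    have hinj : Function.Injective f := by
      intro L L' h
      induction L using Projectivization.ind with
      | h φ hφ =>
        induction L' using Projectivization.ind with
        | h ψ hψ =>
          rw [hf, hf, Projectivization.mk_eq_mk_iff'] at h
          obtain ⟨a, ha⟩ := h
          rw [← Matrix.smul_mulVec, ← Subalgebra.coe_smul] at ha
          have := mulVec_inj hK hv ha
          rw [Projectivization.mk_eq_mk_iff']
          exact ⟨a, by rw [← kL_spec hK φ, ← this, map_smul, kL_spec]⟩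
    refine ⟨hinj, fun P => ?_⟩
    induction P using Projectivization.ind with
    | h w hw =>
      obtain ⟨k, hk⟩ := exists_mulVec hK w hv
      have hk0 : k ≠ 0 := fun e => hw (by rw [← hk, e]; simp)
      have hφ : lnMap k ≠ 0 := fun e => hk0 ((lnMap_bijective hK).1 (e.trans (map_zero _).symm))
      refine ⟨Projectivization.mk F _ hφ, ?_⟩
      rw [hf, Projectivization.mk_eq_mk_iff']
      exact ⟨1, by rw [one_smul, kL_lnMap, hk]⟩
  refine Nat.card_congr (Equiv.subtypeEquiv (Equiv.ofBijective _ hbij) fun L => ?_)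
  show _ ↔ (f L).rep 0 = 0 ∧ cls hK (f L) = _
  refine and_congr ?_ ?_
  · induction L using Projectivization.ind with
    | h φ hφ =>
      rw [hf]
      refine Iff.trans ?_ (apply_rep_iff (LinearMap.proj 0 : (Fin 3 → F) →ₗ[F] F) _).symm
      rw [LinearMap.proj_apply, ← lnMap_apply, kL_spec]
      exact apply_rep_iff (Module.Dual.eval F (Fin 3 → F) v) hφ
  · rw [cls_mulP, mul_left_inj]
    exact Iff.rfl

theorem sum_num [Fintype (Cls F)] : ∑ s, num hK s = Fintype.card F + 1 := by
  classical
  have h : Nat.card {P : ℙ F (Fin 3 → F) // P.rep 0 = 0} = Fintype.card F + 1 := by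
    let W := LinearMap.ker (LinearMap.proj 0 : (Fin 3 → F) →ₗ[F] F)
    have hW : finrank F W = 2 := finrank_ker (fun e => by simpa using LinearMap.congr_fun e (Pi.single 0 1))
    rw [← Nat.card_eq_fintype_card, ← Projectivization.card_of_finrank_two F W hW]
    refine (Nat.card_congr (Equiv.ofBijective (fun P : ℙ F W =>
      (⟨Projectivization.map W.subtype (Submodule.injective_subtype W) P, ?_⟩ : {P : ℙ F (Fin 3 → F) // P.rep 0 = 0}))
      ⟨fun a b h => Projectivization.map_injective _ (Submodule.injective_subtype W) (congrArg Subtype.val h), ?_⟩)).symm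
    · induction P using Projectivization.ind with
      | h w hw =>
        rw [Projectivization.map_mk]
        exact (apply_rep_iff (LinearMap.proj 0 : (Fin 3 → F) →ₗ[F] F) _).2 w.2
    · rintro ⟨P, hP⟩
      refine ⟨Projectivization.mk F (⟨P.rep, hP⟩ : W) (fun e => P.rep_nonzero (congrArg Subtype.val e)), ?_⟩
      refine Subtype.ext ?_
      simp only [Projectivization.map_mk, Submodule.subtype_apply]
      exact Projectivization.mk_rep P
  rw [← h, ← Nat.card_congr (Equiv.sigmaFiberEquiv
    (fun P : {P : ℙ F (Fin 3 → F) // P.rep 0 = 0} => cls hK P.1)), Nat.card_sigma]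
  refine Finset.sum_congr rfl fun s _ => Nat.card_congr ?_
  exact (Equiv.subtypeSubtypeEquivSubtypeInter (fun P : ℙ F (Fin 3 → F) => P.rep 0 = 0) (fun P => cls hK P = s)).symm

/-- Every translation of the coordinate line meets it in one point. -/
theorem sum_num_sq [Fintype (Cls F)] : ∑ s, num hK s * num hK s + 1 =
    Nat.card {P : ℙ F (Fin 3 → F) // cls hK P = 1} + (Fintype.card F + 1) := by
  classical
  haveI : Fintype (ℙ F (Fin 3 → F)) := Fintype.ofFinite _
  obtain ⟨D, hD⟩ : ∃ D : Finset (ℙ F (Fin 3 → F)), D = Finset.univ.filter fun P => P.rep 0 = 0 := ⟨_, rfl⟩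
  have he : (Pi.single 0 1 : Fin 3 → F) ≠ 0 := fun h => by simpa using congrFun h 0
  obtain ⟨O, hO⟩ : ∃ O, O = Projectivization.mk F _ he := ⟨_, rfl⟩
  have hnum : ∀ s, num hK s = (D.filter fun P => cls hK P = s).card := fun s => by
    rw [num, Nat.card_eq_fintype_card, Fintype.card_subtype, hD, Finset.filter_filter]
  have hpairs : ((D ×ˢ D).filter fun x => cls hK x.1 = cls hK x.2).card = ∑ s, num hK s * num hK s := by
    rw [Finset.card_eq_sum_card_fiberwise (f := fun x => cls hK x.1) (t := Finset.univ) (fun _ _ => Finset.mem_univ _)]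
    refine Finset.sum_congr rfl fun s _ => ?_
    rw [hnum, ← Finset.card_product]
    congr 1
    ext ⟨P, Q⟩
    simp only [Finset.mem_filter, Finset.mem_product]
    constructor
    · rintro ⟨⟨⟨hP, hQ⟩, h⟩, hs⟩; exact ⟨⟨hP, hs⟩, hQ, h ▸ hs⟩
    · rintro ⟨⟨hP, hP'⟩, hQ, hQ'⟩; exact ⟨⟨⟨hP, hQ⟩, hP'.trans hQ'.symm⟩, hP'⟩
  have hdiag : (((D ×ˢ D).filter fun x => cls hK x.1 = cls hK x.2).filter fun x => x.1 = x.2).card =
      Fintype.card F + 1 := by
    rw [← sum_num hK, Finset.sum_congr rfl (fun s _ => hnum s),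
      ← Finset.card_eq_sum_card_fiberwise (fun _ _ => Finset.mem_univ _)]
    refine Finset.card_bij' (fun x _ => x.1) (fun P _ => (P, P)) ?_ ?_ ?_ ?_
    · intro x hx; simp only [Finset.mem_filter, Finset.mem_product] at hx; exact hx.1.1.1
    · intro P hP; simp [hP]
    · intro x hx; simp only [Finset.mem_filter] at hx; exact Prod.ext rfl hx.2
    · intro P _; rfl
  -- the quotient of two points
  obtain ⟨E, hE⟩ : ∃ E, E = ((D ×ˢ D).filter fun x => cls hK x.1 = cls hK x.2).filter fun x => ¬ x.1 = x.2 :=
    ⟨_, rfl⟩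
  obtain ⟨T, hT⟩ : ∃ T : Finset (ℙ F (Fin 3 → F)), T = (Finset.univ.filter fun P => cls hK P = 1).erase O := ⟨_, rfl⟩
  choose x hx using fun z : ℙ F (Fin 3 → F) × ℙ F (Fin 3 → F) => exists_mulVec hK z.2.rep z.1.rep_nonzero
  have hx0 : ∀ z, x z ≠ 0 := fun z h => z.2.rep_nonzero (by rw [← hx z, h]; simp)
  have hcard : E.card = T.card := by
    refine Finset.card_bij (fun z _ => mulP hK (hx0 z) O) (fun z hz => ?_) (fun z hz z' hz' h => ?_) (fun P hP => ?_)
    · rw [hE] at hz; simp only [Finset.mem_filter, Finset.mem_product] at hz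
      have hz' : mulP hK (hx0 z) z.1 = z.2 := by
        conv_lhs => rw [← Projectivization.mk_rep z.1]
        rw [mulP, Projectivization.map_mk]
        conv_rhs => rw [← Projectivization.mk_rep z.2]
        rw [Projectivization.mk_eq_mk_iff']
        exact ⟨1, by rw [one_smul, act_unit, hx]⟩
      have hc : clK hK (hx0 z) = 1 := by
        have := cls_mulP hK (hx0 z) z.1
        rw [hz', hz.1.2] at this
        exact mul_eq_right.1 this.symm
      rw [hT, Finset.mem_erase, Finset.mem_filter, cls_mulP, hc, one_mul, hO]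
      refine ⟨fun e => hz.2 ?_, Finset.mem_univ _, cls_one hK⟩
      rw [mulP, Projectivization.map_mk, Projectivization.mk_eq_mk_iff'] at e
      obtain ⟨c, hc⟩ := e
      have e' : x z = c • 1 := mulVec_inj hK he (by
        rw [Subalgebra.coe_smul, Subalgebra.coe_one, Matrix.smul_mulVec, Matrix.one_mulVec, ← act_unit hK (hx0 z), hc])
      rw [← Projectivization.mk_rep z.1, ← Projectivization.mk_rep z.2, eq_comm, Projectivization.mk_eq_mk_iff']
      refine ⟨c, ?_⟩
      rw [← hx z, e']
      simp [Matrix.smul_mulVec]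
    · rw [hE] at hz hz'; simp only [Finset.mem_filter, Finset.mem_product, hD, Finset.mem_univ, true_and] at hz hz'
      rw [hO, mulP, mulP, Projectivization.map_mk, Projectivization.map_mk, Projectivization.mk_eq_mk_iff'] at h
      obtain ⟨a, ha⟩ := h
      have e : a • x z' = x z := mulVec_inj hK he (by
        rw [Subalgebra.coe_smul, Matrix.smul_mulVec, ← act_unit hK (hx0 z'), ← act_unit hK (hx0 z), ha])
      have hker : z'.1.rep ∈ F ∙ z.1.rep := by
        by_contra hno
        have hind : LinearIndependent F ![z.1.rep, z'.1.rep] :=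
          (LinearIndependent.pair_iff' z.1.rep_nonzero).2 fun b hb =>
            hno (Submodule.mem_span_singleton.2 ⟨b, hb⟩)
        obtain ⟨b, hb⟩ := prop_of_two (φ := lnMap (x z)) (χ := LinearMap.proj 0)
          (fun e => by simpa using LinearMap.congr_fun e (Pi.single 0 1)) hind hz.1.1.1 hz'.1.1.1
          (by rw [lnMap_apply, hx]; exact hz.1.1.2)
          (by rw [← e, map_smul, LinearMap.smul_apply, lnMap_apply, hx, hz'.1.1.2, smul_zero])
        refine hz.2 ?_
        have hb' : x z = b • 1 := (lnMap_bijective hK).1 (by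
          rw [map_smul, hb]
          congr 1
          exact LinearMap.ext fun v => by rw [lnMap_apply, Subalgebra.coe_one, Matrix.one_mulVec]; rfl)
        rw [← Projectivization.mk_rep z.1, ← Projectivization.mk_rep z.2, eq_comm, Projectivization.mk_eq_mk_iff']
        refine ⟨b, ?_⟩
        rw [← hx z, hb']
        simp [Matrix.smul_mulVec]
      obtain ⟨b, hb⟩ := Submodule.mem_span_singleton.1 hker
      refine Prod.ext ?_ ?_
      · rw [← Projectivization.mk_rep z.1, ← Projectivization.mk_rep z'.1, eq_comm, Projectivization.mk_eq_mk_iff']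
        exact ⟨b, hb⟩
      · have ha0 : a ≠ 0 := by rintro rfl; rw [zero_smul] at e; exact hx0 z e.symm
        have hb0 : b ≠ 0 := fun e => z'.1.rep_nonzero (by rw [← hb, e, zero_smul])
        rw [← Projectivization.mk_rep z.2, ← Projectivization.mk_rep z'.2, eq_comm, Projectivization.mk_eq_mk_iff']
        refine ⟨b * a⁻¹, ?_⟩
        rw [← hx z, ← e, Subalgebra.coe_smul, Matrix.smul_mulVec, smul_smul, mul_assoc, inv_mul_cancel₀ ha0, mul_one,
          ← hx z', ← hb, Matrix.mulVec_smul]
    · rw [hT, Finset.mem_erase, Finset.mem_filter] at hP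
      obtain ⟨k, hk⟩ := exists_mulVec hK P.rep he
      have hk0 : k ≠ 0 := fun e => P.rep_nonzero (by rw [← hk, e, Subalgebra.coe_zero, Matrix.zero_mulVec])
      have hkP : mulP hK hk0 O = P := by
        rw [hO, mulP, Projectivization.map_mk]
        conv_rhs => rw [← Projectivization.mk_rep P]
        rw [Projectivization.mk_eq_mk_iff']
        exact ⟨1, by rw [one_smul, act_unit, hk]⟩
      have hkc : clK hK hk0 = 1 := by
        have := cls_mulP hK hk0 O
        rw [hkP, hP.2.2, hO, cls_one, mul_one] at this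
        exact this.symm
      -- a common point of two lines
      obtain ⟨v, hv, hv0⟩ : ∃ v ∈ LinearMap.ker (LinearMap.proj 0 : (Fin 3 → F) →ₗ[F] F) ⊓
          LinearMap.ker (lnMap k), v ≠ 0 := by
        refine Submodule.exists_mem_ne_zero_of_ne_bot fun hbot => ?_
        have h1 := Submodule.finrank_sup_add_finrank_inf_eq
          (LinearMap.ker (LinearMap.proj 0 : (Fin 3 → F) →ₗ[F] F)) (LinearMap.ker (lnMap k))
        rw [hbot, finrank_bot, finrank_ker (fun e => by simpa using LinearMap.congr_fun e (Pi.single 0 1)),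
          finrank_ker (fun e => hk0 ((lnMap_bijective hK).1 (e.trans (map_zero _).symm)))] at h1
        have h2 := Submodule.finrank_le (LinearMap.ker (LinearMap.proj 0 : (Fin 3 → F) →ₗ[F] F) ⊔
          LinearMap.ker (lnMap k))
        rw [Module.finrank_pi, Fintype.card_fin] at h2
        omega
      obtain ⟨hv1, hv2⟩ := hv
      refine ⟨(Projectivization.mk F v hv0, mulP hK hk0 (Projectivization.mk F v hv0)), ?_, ?_⟩
      · rw [hE]
        simp only [Finset.mem_filter, Finset.mem_product, hD, Finset.mem_univ, true_and]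
        refine ⟨⟨⟨(apply_rep_iff (LinearMap.proj 0 : (Fin 3 → F) →ₗ[F] F) hv0).2 hv1, ?_⟩, ?_⟩, fun e => hP.1 ?_⟩
        · rw [mulP, Projectivization.map_mk]
          refine (apply_rep_iff (LinearMap.proj 0 : (Fin 3 → F) →ₗ[F] F) _).2 ?_
          rw [LinearMap.proj_apply, act_unit, ← lnMap_apply]
          exact hv2
        · rw [cls_mulP, hkc, one_mul]
        · rw [mulP, Projectivization.map_mk, Projectivization.mk_eq_mk_iff'] at e
          obtain ⟨c, hc⟩ := e
          have hc0 : c ≠ 0 := fun e' => hv0 (by rw [← hc, e', zero_smul])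
          have e' : k = c⁻¹ • 1 := mulVec_inj hK hv0 (by
            rw [Subalgebra.coe_smul, Subalgebra.coe_one, Matrix.smul_mulVec, Matrix.one_mulVec,
              ← act_unit hK hk0, eq_inv_smul_iff₀ hc0, hc])
          rw [hO, ← Projectivization.mk_rep P, Projectivization.mk_eq_mk_iff']
          refine ⟨c⁻¹, ?_⟩
          rw [← hk, e', Subalgebra.coe_smul, Subalgebra.coe_one, Matrix.smul_mulVec, Matrix.one_mulVec]
      · obtain ⟨z, hzdef⟩ : ∃ z, z = (Projectivization.mk F v hv0, mulP hK hk0 (Projectivization.mk F v hv0)) :=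
          ⟨_, rfl⟩
        rw [← hzdef]
        obtain ⟨a, ha⟩ := Projectivization.exists_smul_eq_mk_rep F v hv0
        obtain ⟨b, hb⟩ := Projectivization.exists_smul_eq_mk_rep F (act (unit hK hk0) v)
          (fun e => hv0 (act_injective _ (e.trans (map_zero _).symm)))
        have e : x z = ((b : F) * (a : F)⁻¹) • k := mulVec_inj hK z.1.rep_nonzero (by
          rw [hx z, Subalgebra.coe_smul, Matrix.smul_mulVec, hzdef]
          simp only [mulP, Projectivization.map_mk]
          rw [← hb, ← ha, Units.smul_def, Units.smul_def, act_unit, Matrix.mulVec_smul, smul_smul, mul_assoc,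
            inv_mul_cancel₀ a.ne_zero, mul_one])
        rw [← hkP, hO, mulP, mulP, Projectivization.map_mk, Projectivization.map_mk, Projectivization.mk_eq_mk_iff']
        exact ⟨(b : F) * (a : F)⁻¹, by rw [act_unit, act_unit, e, Subalgebra.coe_smul, Matrix.smul_mulVec]⟩
  have hsplit := Finset.card_filter_add_card_filter_not
    (s := (D ×ˢ D).filter fun x => cls hK x.1 = cls hK x.2) (fun x => x.1 = x.2)
  rw [hdiag, ← hE, hcard, hpairs] at hsplit
  have hTc : T.card + 1 = Nat.card {P : ℙ F (Fin 3 → F) // cls hK P = 1} := by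
    rw [hT, Finset.card_erase_add_one (Finset.mem_filter.2 ⟨Finset.mem_univ _, hO ▸ cls_one hK⟩),
      Nat.card_eq_fintype_card, Fintype.card_subtype]
  omega

theorem one_class (h : Nat.card (Cls F) ≠ 3) : Nat.card (Cls F) = 1 := by
  rw [card_Cls] at h ⊢
  exact ((Nat.dvd_prime Nat.prime_three).1 (Nat.gcd_dvd_right _ 3)).resolve_right h

/-- The three numbers. -/
theorem three_classes (h3 : Nat.card (Cls F) = 3) {s t : Cls F} (hst : s ≠ t) : ∃ u,
    num hK s + num hK t + num hK u = Fintype.card F + 1 ∧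
    3 * (num hK s * num hK s + num hK t * num hK t + num hK u * num hK u) =
      Fintype.card F ^ 2 + 4 * Fintype.card F + 1 := by
  classical
  haveI : Fintype (Cls F) := Fintype.ofFinite _
  rw [Nat.card_eq_fintype_card] at h3
  obtain ⟨u, hu, hus⟩ : ∃ u, u ≠ s ∧ u ≠ t := by
    by_contra hno
    push Not at hno
    have h := Finset.card_le_card (s := Finset.univ) (t := ({s, t} : Finset (Cls F))) fun u _ => by
      rcases eq_or_ne u s with rfl | hu
      · simp
      · simp [hno u hu]
    rw [Finset.card_univ, h3, Finset.card_pair hst] at h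
    omega
  have huniv : ({s, t, u} : Finset (Cls F)) = Finset.univ := Finset.eq_univ_of_card _ (by
    rw [Finset.card_insert_of_notMem (by simp [hst, hu.symm]), Finset.card_pair hus.symm, h3])
  have h1 := sum_num hK
  have h2 := sum_num_sq hK
  have h4 := card_mul hK
  rw [Nat.card_eq_fintype_card, h3] at h4
  rw [← huniv, Finset.sum_insert (by simp [hst, hu.symm]), Finset.sum_pair hus.symm, ← add_assoc] at h1 h2
  exact ⟨u, h1, by omega⟩

/-- Every class meets every line. -/
theorem num_pos (s : Cls F) : 0 < num hK s := by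
  classical
  haveI : Fintype (Cls F) := Fintype.ofFinite _
  have hq : 1 < Fintype.card F := Fintype.one_lt_card
  rcases Nat.eq_zero_or_pos (num hK s) with h0 | h
  swap
  · exact h
  exfalso
  by_cases h3 : Nat.card (Cls F) = 3
  · haveI : Nontrivial (Cls F) := Finite.one_lt_card_iff_nontrivial.1 (by omega)
    obtain ⟨t, ht⟩ := exists_ne s
    obtain ⟨u, h1, h2⟩ := three_classes hK h3 ht.symm
    rw [h0, Nat.zero_add] at h1 h2
    zify at h1 h2
    nlinarith [sq_nonneg ((num hK t : ℤ) - num hK u)]
  · haveI : Subsingleton (Cls F) := (Nat.card_eq_one_iff_unique.1 (one_class hK h3)).1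
    have h1 := sum_num hK
    rw [Finset.sum_eq_single s (fun t _ ht => absurd (Subsingleton.elim t s) ht) (by simp), h0] at h1
    omega

/-- Only one class has a single point on the line, except for four scalars. -/
theorem num_one_unique (h4 : Fintype.card F ≠ 4) {s t : Cls F} (hs : num hK s = 1) (ht : num hK t = 1) : s = t := by
  by_contra hst
  by_cases h3 : Nat.card (Cls F) = 3
  · obtain ⟨u, h1, h2⟩ := three_classes hK h3 hst
    rw [hs, ht] at h1 h2
    have hq : 1 < Fintype.card F := Fintype.one_lt_card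
    obtain ⟨m, hm⟩ : ∃ m, Fintype.card F = m + 1 := ⟨_, (Nat.succ_pred_eq_of_pos (by omega)).symm⟩
    have hu : num hK u = m := by omega
    rw [hu, hm] at h2
    have : (m : ℤ) * (m - 3) = 0 := by
      zify at h2
      linarith [h2]
    rcases mul_eq_zero.1 this with h | h <;> omega
  · haveI : Subsingleton (Cls F) := (Nat.card_eq_one_iff_unique.1 (one_class hK h3)).1
    exact hst (Subsingleton.elim s t)

end Cfsg.Agent.MaxCl.SLThree.Cubic
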