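/-
The action on points, classes of centres and axes, and counting along orbits.
-/
import Cfsg.Agent.Lib.MaxCl.SLThree.Cubic.Count

set_option autoImplicit false
set_option linter.unusedSectionVars false

namespace Cfsg.Agent.MaxCl.SLThree.Cubic

open scoped MatrixGroups Matrix LinearAlgebra.Projectivization
open Module (finrank)

section counting

variable {α : Type*} [DecidableEq α]

/-- A permutation of prime order with one fixed point. -/
theorem modEq_one_of_fixed {p : ℕ} (hp : p.Prime) {X : Finset α} {f : α → α} (hX : ∀ x ∈ X, f x ∈ X)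
    (hf : ∀ x ∈ X, f^[p] x = x) {P : α} (hP : P ∈ X) (hPf : f P = P) (hne : ∀ x ∈ X, f x = x → x = P) :
    X.card ≡ 1 [MOD p] := by
  haveI : Fact p.Prime := ⟨hp⟩
  obtain ⟨σ, hσ⟩ : ∃ σ : Function.End X, ∀ x : X, ((σ x : X) : α) = f x :=
    ⟨fun x => ⟨f x, hX _ x.2⟩, fun x => rfl⟩
  have hit : ∀ (k : ℕ) (x : X), (((σ ^ k) x : X) : α) = f^[k] x := by
    intro k
    induction k with
    | zero => intro x; rfl
    | succ k ih =>
      intro x
      rw [pow_succ', Function.iterate_succ_apply', ← ih x, ← hσ]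
      rfl
  have h1 : σ ^ p ^ 1 = 1 := by
    funext x
    refine Subtype.ext ?_
    rw [pow_one, hit]
    exact hf _ x.2
  have h := Equiv.Perm.card_fixedPoints_modEq h1
  rw [Fintype.card_coe] at h
  refine h.trans ?_
  refine congrArg (· % p) ?_
  refine (@Fintype.card_eq_one_iff _ (_)).2 ?_
  refine ⟨⟨⟨P, hP⟩, Subtype.ext ((hσ _).trans hPf)⟩, fun x => Subtype.ext (Subtype.ext ?_)⟩
  refine hne _ x.1.2 ?_
  rw [← hσ]
  exact congrArg Subtype.val x.2

/-- Two commuting involutions with product acting without fixed points. -/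
theorem four_dvd (f g : α → α) : ∀ X : Finset α, (∀ x ∈ X, f x ∈ X) → (∀ x ∈ X, g x ∈ X) →
    (∀ x ∈ X, f (f x) = x) → (∀ x ∈ X, g (g x) = x) → (∀ x ∈ X, f (g x) = g (f x)) → (∀ x ∈ X, f x ≠ x) →
    (∀ x ∈ X, g x ≠ x) → (∀ x ∈ X, f (g x) ≠ x) → 4 ∣ X.card := by
  intro X
  induction X using Finset.strongInduction with
  | _ X ih =>
    intro hf hg hff hgg hc hf0 hg0 hfg
    rcases X.eq_empty_or_nonempty with rfl | ⟨x, hx⟩
    · simp
    obtain ⟨T, hT⟩ : ∃ T : Finset α, T = {x, f x, g x, f (g x)} := ⟨_, rfl⟩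
    have h1 : f x ≠ g x := fun e => hfg x hx (by rw [← e, hff x hx])
    have h2 : f x ≠ f (g x) := fun e => hg0 x hx (by rw [← hff _ (hg x hx), ← e, hff x hx])
    have h3 : g x ≠ f (g x) := fun e => hf0 _ (hg x hx) e.symm
    have hTc : T.card = 4 := by
      rw [hT, Finset.card_insert_of_notMem (by simp [(hf0 x hx).symm, (hg0 x hx).symm, (hfg x hx).symm]),
        Finset.card_insert_of_notMem (by simp [h1, h2]), Finset.card_pair h3]
    have hTX : T ⊆ X := by
      intro y hy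
      simp only [hT, Finset.mem_insert, Finset.mem_singleton] at hy
      rcases hy with e | e | e | e <;> rw [e]
      exacts [hx, hf x hx, hg x hx, hf _ (hg x hx)]
    have hTf : ∀ y ∈ T, f y ∈ T := by
      intro y hy
      simp only [hT, Finset.mem_insert, Finset.mem_singleton] at hy ⊢
      rcases hy with e | e | e | e <;> rw [e] <;> simp [hff _ hx, hff _ (hg x hx)]
    have hTg : ∀ y ∈ T, g y ∈ T := by
      intro y hy
      simp only [hT, Finset.mem_insert, Finset.mem_singleton] at hy ⊢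
      rcases hy with e | e | e | e <;> rw [e] <;> simp [hgg _ hx, ← hc _ hx, ← hc _ (hg x hx)]
    have hsub : X \ T ⊂ X := Finset.sdiff_ssubset hTX ⟨x, by simp [hT]⟩
    have := ih (X \ T) hsub (fun y hy => ?_) (fun y hy => ?_) (fun y hy => hff y (Finset.mem_sdiff.1 hy).1)
      (fun y hy => hgg y (Finset.mem_sdiff.1 hy).1) (fun y hy => hc y (Finset.mem_sdiff.1 hy).1)
      (fun y hy => hf0 y (Finset.mem_sdiff.1 hy).1) (fun y hy => hg0 y (Finset.mem_sdiff.1 hy).1)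
      (fun y hy => hfg y (Finset.mem_sdiff.1 hy).1)
    · have := Finset.card_sdiff_add_card_eq_card hTX
      omega
    · rw [Finset.mem_sdiff] at hy ⊢
      exact ⟨hf y hy.1, fun h => hy.2 (hff y hy.1 ▸ hTf _ h)⟩
    · rw [Finset.mem_sdiff] at hy ⊢
      exact ⟨hg y hy.1, fun h => hy.2 (hgg y hy.1 ▸ hTg _ h)⟩

end counting

variable {F : Type*} [Field F] [Fintype F]

/-- The action on points. -/
noncomputable def mapP (g : GL (Fin 3) F) : ℙ F (Fin 3 → F) → ℙ F (Fin 3 → F) :=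
  Projectivization.map (act g) (act_injective g)

theorem mapP_mk (g : GL (Fin 3) F) {v : Fin 3 → F} (hv : v ≠ 0) :
    mapP g (Projectivization.mk F v hv) =
      Projectivization.mk F (act g v) (fun h => hv (act_injective g (h.trans (map_zero _).symm))) :=
  Projectivization.map_mk _ _ _ _

theorem mapP_mul (g h : GL (Fin 3) F) (P : ℙ F (Fin 3 → F)) : mapP g (mapP h P) = mapP (g * h) P := by
  induction P using Projectivization.ind with
  | h v hv => simp only [mapP_mk, act_mul]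

theorem mapP_one (P : ℙ F (Fin 3 → F)) : mapP 1 P = P := by
  induction P using Projectivization.ind with
  | h v hv => simp only [mapP_mk, act_one]

theorem mapP_eq_self {g : GL (Fin 3) F} {v : Fin 3 → F} {hv : v ≠ 0} :
    mapP g (Projectivization.mk F v hv) = Projectivization.mk F v hv ↔ ∃ a : F, act g v = a • v := by
  rw [mapP_mk, Projectivization.mk_eq_mk_iff']
  exact ⟨fun ⟨a, h⟩ => ⟨a, h.symm⟩, fun ⟨a, h⟩ => ⟨a, h.symm⟩⟩

/-- A property of vectors not depending on the scalar, on the representative. -/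
theorem rep_iff {V : Type*} [AddCommGroup V] [Module F V] {p : V → Prop}
    (hp : ∀ v (a : F), a ≠ 0 → p v → p (a • v)) {v : V} (hv : v ≠ 0) :
    p (Projectivization.mk F v hv).rep ↔ p v := by
  obtain ⟨a, ha⟩ := Projectivization.exists_smul_eq_mk_rep F v hv
  rw [← ha, Units.smul_def]
  refine ⟨fun h => ?_, hp v a a.ne_zero⟩
  have := hp _ _ (inv_ne_zero a.ne_zero) h
  rwa [inv_smul_smul₀ a.ne_zero] at this

variable {M : Subgroup (GL (Fin 3) F)}

theorem centre_smul {v : Fin 3 → F} {a : F} (ha : a ≠ 0) (h : Centre M v) : Centre M (a • v) := by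
  obtain ⟨hv, φ, hφ, hf⟩ := h
  exact ⟨smul_ne_zero ha hv, φ, hφ, hf.smul_centre ha⟩

theorem axis_smul {φ : (Fin 3 → F) →ₗ[F] F} {a : F} (ha : a ≠ 0) (h : Axis M φ) : Axis M (a • φ) := by
  obtain ⟨hφ, v, hv, hf⟩ := h
  exact ⟨smul_ne_zero ha hφ, v, hv, hf.smul_axis ha⟩

theorem flag_conj {g : GL (Fin 3) F} (hg : g ∈ M) {v : Fin 3 → F} {φ : (Fin 3 → F) →ₗ[F] F} (h : Flag M v φ) :
    Flag M (act g v) (φ ∘ₗ act g⁻¹) := by
  obtain ⟨hv, c, hc, hm⟩ := h
  refine ⟨by rw [LinearMap.comp_apply, act_inv_act, hv], c, hc, ?_⟩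
  rw [← map_smul]
  exact conj_mem hg (by simp [hv]) hm

theorem centre_act {g : GL (Fin 3) F} (hg : g ∈ M) {v : Fin 3 → F} (h : Centre M v) : Centre M (act g v) := by
  obtain ⟨hv, φ, hφ, hf⟩ := h
  refine ⟨fun e => hv (act_injective g (e.trans (map_zero _).symm)), φ ∘ₗ act g⁻¹, fun e => hφ ?_, flag_conj hg hf⟩
  exact LinearMap.ext fun x => by
    have := LinearMap.congr_fun e (act g x)
    simpa [act_inv_act] using this

theorem axis_comp {g : GL (Fin 3) F} (hg : g ∈ M) {φ : (Fin 3 → F) →ₗ[F] F} (h : Axis M φ) :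
    Axis M (φ ∘ₗ act g) := by
  obtain ⟨hφ, v, hv, hf⟩ := h
  refine ⟨fun e => hφ (LinearMap.ext fun x => ?_), act g⁻¹ v,
    fun e => hv (act_injective g⁻¹ (e.trans (map_zero _).symm)), by simpa using flag_conj (M.inv_mem hg) hf⟩
  have := LinearMap.congr_fun e (act g⁻¹ x)
  simpa [act_act_inv] using this

variable {K : Subalgebra F (Matrix (Fin 3) (Fin 3) F)} (hK : Cfsg.Geo.IsFieldSubalgebra 3 K)
include hK

/-- Lines of one class are carried into one another by norm-one elements. -/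
theorem exists_det_one_line {φ χ : (Fin 3 → F) →ₗ[F] F} (hφ : φ ≠ 0) (hχ : χ ≠ 0)
    (h : clK hK (kL_ne hK hφ) = clK hK (kL_ne hK hχ)) :
    ∃ (g : GL (Fin 3) F) (r : F), g ∈ Cfsg.Geo.specialLinear (Fin 3) F ∧
      (g : Matrix (Fin 3) (Fin 3) F) ∈ K ∧ r ≠ 0 ∧ φ ∘ₗ act g = r • χ := by
  rw [clK, clK, QuotientGroup.eq] at h
  obtain ⟨a, ha⟩ := h
  obtain ⟨k₁, hk₁⟩ : ∃ k, k = kL hK φ := ⟨_, rfl⟩
  obtain ⟨k₂, hk₂⟩ : ∃ k, k = kL hK χ := ⟨_, rfl⟩
  have h10 : k₁ ≠ 0 := hk₁ ▸ kL_ne hK hφ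
  obtain ⟨y, hy, hy1⟩ := hK.inv k₁ k₁.2 fun e => h10 (Subtype.ext e)
  obtain ⟨l, hl⟩ : ∃ l : K, l = ⟨y, hy⟩ * k₂ := ⟨_, rfl⟩
  have hkl : (k₁ : Matrix (Fin 3) (Fin 3) F) * (l : Matrix (Fin 3) (Fin 3) F) = k₂ := by
    rw [hl, Subalgebra.coe_mul, ← mul_assoc, hy1, one_mul]
  have hl0 : l ≠ 0 := fun e => kL_ne hK hχ (by
    rw [← hk₂]; refine Subtype.ext ?_; rw [← hkl, e]; simp)
  have hdet : (l : Matrix (Fin 3) (Fin 3) F).det = (a : F) ^ 3 := by
    have := congrArg (fun u : Fˣ => (u : F)) ha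
    simp only [powMonoidHom_apply, Units.val_pow_eq_pow_val, Units.val_mul, Units.val_inv_eq_inv_val,
      Units.val_mk0, ← hk₁, ← hk₂, ← hkl, Matrix.det_mul] at this
    rw [this]
    field_simp [det_ne_zero hK h10]
  have hk : (a⁻¹ : F) • l ≠ 0 := smul_ne_zero (inv_ne_zero a.ne_zero) hl0
  refine ⟨unit hK hk, (a⁻¹ : F), MonoidHom.mem_ker.2 (Units.ext ?_), ((a⁻¹ : F) • l).2, inv_ne_zero a.ne_zero, ?_⟩
  · rw [Matrix.GeneralLinearGroup.val_det_apply, unit_val, Subalgebra.coe_smul, Matrix.det_smul, hdet,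
      Fintype.card_fin, ← mul_pow, inv_mul_cancel₀ a.ne_zero]
    simp
  · refine LinearMap.ext fun x => ?_
    rw [LinearMap.comp_apply, LinearMap.smul_apply, ← kL_spec hK φ, ← kL_spec hK χ, ← hk₁, ← hk₂, act_unit,
      lnMap_apply, lnMap_apply, Subalgebra.coe_smul, Matrix.smul_mulVec, Matrix.mulVec_smul, Matrix.mulVec_mulVec,
      hkl]
    rfl

variable (hC : ∀ g ∈ Cfsg.Geo.specialLinear (Fin 3) F, (g : Matrix (Fin 3) (Fin 3) F) ∈ K → g ∈ M)
include hC

theorem centre_of_cls {v w : Fin 3 → F} (hv : Centre M v) (hw : w ≠ 0)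
    (h : cls hK (Projectivization.mk F v hv.1) = cls hK (Projectivization.mk F w hw)) : Centre M w := by
  obtain ⟨g, r, hg1, hg2, hr, hgv⟩ := exists_det_one hK hv.1 hw h
  have := centre_smul (inv_ne_zero hr) (centre_act (hC g hg1 hg2) hv)
  rwa [hgv, inv_smul_smul₀ hr] at this

theorem axis_of_cls {φ χ : (Fin 3 → F) →ₗ[F] F} (hφ : Axis M φ) (hχ : χ ≠ 0)
    (h : clK hK (kL_ne hK hφ.1) = clK hK (kL_ne hK hχ)) : Axis M χ := by
  obtain ⟨g, r, hg1, hg2, hr, hgv⟩ := exists_det_one_line hK hφ.1 hχ h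
  have := axis_smul (inv_ne_zero hr) (axis_comp (hC g hg1 hg2) hφ)
  rwa [hgv, inv_smul_smul₀ hr] at this

omit hC

theorem exists_point (s : Cls F) : ∃ (v : Fin 3 → F) (hv : v ≠ 0), cls hK (Projectivization.mk F v hv) = s := by
  have h := num_pos hK s
  obtain ⟨⟨P, -, hP⟩, -⟩ := Nat.card_pos_iff.1 h
  exact ⟨P.rep, P.rep_nonzero, by rw [Projectivization.mk_rep, hP]⟩

theorem exists_line (t : Cls F) : ∃ (φ : (Fin 3 → F) →ₗ[F] F) (hφ : φ ≠ 0), clK hK (kL_ne hK hφ) = t := by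
  obtain ⟨k, hk, rfl⟩ := exists_clK hK t
  have h : lnMap k ≠ 0 := fun e => hk ((lnMap_bijective hK).1 (e.trans (map_zero _).symm))
  exact ⟨lnMap k, h, clK_congr hK _ hk (kL_lnMap hK k)⟩

end Cfsg.Agent.MaxCl.SLThree.Cubic
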