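/-
A group with a transvection and the norm-one elements of a cubic field has every point as a centre and every line as
an axis, when there are not exactly four scalars.

With three classes, the centres on each line are one modulo the characteristic, so there are three or one class of
centres, the latter only in characteristic two; there the count is one modulo four on all but one line through a
point with four axes, which the numbers of points of the classes on a line do not allow.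
-/
import Cfsg.Agent.Lib.MaxCl.SLThree.Cubic.Geom

set_option autoImplicit false
set_option linter.unusedSectionVars false

namespace Cfsg.Agent.MaxCl.SLThree.Cubic

open scoped MatrixGroups Matrix LinearAlgebra.Projectivization
open Module (finrank)

variable {F : Type*} [Field F] [Fintype F] {M : Subgroup (GL (Fin 3) F)}

/-- The pullback of functionals along a group element. -/
noncomputable def pullL (g : GL (Fin 3) F) : ((Fin 3 → F) →ₗ[F] F) →ₗ[F] ((Fin 3 → F) →ₗ[F] F) where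
  toFun φ := φ ∘ₗ act g
  map_add' a b := LinearMap.add_comp _ _ _
  map_smul' c a := LinearMap.smul_comp _ _ _

theorem pullL_injective (g : GL (Fin 3) F) : Function.Injective (pullL g) := fun φ ψ h => LinearMap.ext fun x => by
  simpa [pullL, act_act_inv] using LinearMap.congr_fun h (act g⁻¹ x)

/-- The action on lines. -/
noncomputable def mapL (g : GL (Fin 3) F) :
    ℙ F ((Fin 3 → F) →ₗ[F] F) → ℙ F ((Fin 3 → F) →ₗ[F] F) :=
  Projectivization.map (pullL g) (pullL_injective g)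

theorem mapL_mk (g : GL (Fin 3) F) {φ : (Fin 3 → F) →ₗ[F] F} (hφ : φ ≠ 0) :
    mapL g (Projectivization.mk F φ hφ) =
      Projectivization.mk F (φ ∘ₗ act g) (fun h => hφ (pullL_injective g (h.trans (map_zero _).symm))) :=
  Projectivization.map_mk _ _ _ _

theorem mapL_mul (g h : GL (Fin 3) F) (L : ℙ F ((Fin 3 → F) →ₗ[F] F)) : mapL g (mapL h L) = mapL (h * g) L := by
  induction L using Projectivization.ind with
  | h φ hφ =>
    simp only [mapL_mk]
    congr 1
    exact LinearMap.ext fun x => by simp [act_mul]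

theorem mapL_one (L : ℙ F ((Fin 3 → F) →ₗ[F] F)) : mapL 1 L = L := by
  induction L using Projectivization.ind with
  | h φ hφ =>
    simp only [mapL_mk]
    congr 1
    exact LinearMap.ext fun x => by simp [act_one]

theorem tv_pow {φ : (Fin 3 → F) →ₗ[F] F} {v : Fin 3 → F} (h : φ v = 0) (k : ℕ) :
    tv φ v ^ k = tv φ ((k : F) • v) := by
  induction k with
  | zero => exact gl_ext fun x => by simp [act_one, act_tv]
  | succ k ih =>
    rw [pow_succ, ih, tv_add_right φ _ v (by simp [h]) h]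
    congr 1
    push_cast
    rw [add_smul, one_smul]

theorem tv_pow_char {p : ℕ} [CharP F p] {φ : (Fin 3 → F) →ₗ[F] F} {v : Fin 3 → F} (h : φ v = 0) :
    tv φ v ^ p = 1 := by
  rw [tv_pow h, CharP.cast_eq_zero]
  exact gl_ext fun x => by simp [act_one, act_tv]

theorem mapP_iterate (g : GL (Fin 3) F) (k : ℕ) (P : ℙ F (Fin 3 → F)) : (mapP g)^[k] P = mapP (g ^ k) P := by
  induction k with
  | zero => simp [mapP_one]
  | succ k ih => rw [Function.iterate_succ_apply', ih, mapP_mul, pow_succ']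

theorem mapL_iterate (g : GL (Fin 3) F) (k : ℕ) (L : ℙ F ((Fin 3 → F) →ₗ[F] F)) :
    (mapL g)^[k] L = mapL (g ^ k) L := by
  induction k with
  | zero => simp [mapL_one]
  | succ k ih => rw [Function.iterate_succ_apply', ih, mapL_mul, pow_succ]

theorem centre_mapP {g : GL (Fin 3) F} (hg : g ∈ M) {P : ℙ F (Fin 3 → F)} (h : Centre M P.rep) :
    Centre M (mapP g P).rep := by
  rw [← Projectivization.mk_rep P, mapP_mk, rep_iff (p := Centre M) fun v a ha hv => centre_smul ha hv]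
  exact centre_act hg h

theorem axis_mapL {g : GL (Fin 3) F} (hg : g ∈ M) {L : ℙ F ((Fin 3 → F) →ₗ[F] F)} (h : Axis M L.rep) :
    Axis M (mapL g L).rep := by
  rw [← Projectivization.mk_rep L, mapL_mk, rep_iff (p := Axis M) fun v a ha hv => axis_smul ha hv]
  exact axis_comp hg h

/-- The centres on a line. -/
noncomputable def centresOn (M : Subgroup (GL (Fin 3) F)) (ψ : (Fin 3 → F) →ₗ[F] F) : Finset (ℙ F (Fin 3 → F)) := by
  classical
  haveI : Fintype (ℙ F (Fin 3 → F)) := Fintype.ofFinite _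
  exact Finset.univ.filter fun P => ψ P.rep = 0 ∧ Centre M P.rep

theorem mem_centresOn {ψ : (Fin 3 → F) →ₗ[F] F} {P : ℙ F (Fin 3 → F)} :
    P ∈ centresOn M ψ ↔ ψ P.rep = 0 ∧ Centre M P.rep := by
  classical
  simp [centresOn]

theorem mk_mem_centresOn {ψ : (Fin 3 → F) →ₗ[F] F} {v : Fin 3 → F} {hv : v ≠ 0} :
    Projectivization.mk F v hv ∈ centresOn M ψ ↔ ψ v = 0 ∧ Centre M v := by
  rw [mem_centresOn, apply_rep_iff, rep_iff (p := Centre M) fun v a ha hv => centre_smul ha hv]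

/-- The axes through a point. -/
noncomputable def axesAt (M : Subgroup (GL (Fin 3) F)) (v : Fin 3 → F) : Finset (ℙ F ((Fin 3 → F) →ₗ[F] F)) := by
  classical
  haveI : Finite ((Fin 3 → F) →ₗ[F] F) :=
    Finite.of_injective (fun φ : (Fin 3 → F) →ₗ[F] F => (φ : (Fin 3 → F) → F)) DFunLike.coe_injective
  haveI : Fintype (ℙ F ((Fin 3 → F) →ₗ[F] F)) := Fintype.ofFinite _
  exact Finset.univ.filter fun L => L.rep v = 0 ∧ Axis M L.rep

theorem mem_axesAt {v : Fin 3 → F} {L : ℙ F ((Fin 3 → F) →ₗ[F] F)} :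
    L ∈ axesAt M v ↔ L.rep v = 0 ∧ Axis M L.rep := by
  classical
  simp [axesAt]

theorem eval_rep_iff {φ : (Fin 3 → F) →ₗ[F] F} (hφ : φ ≠ 0) (v : Fin 3 → F) :
    (Projectivization.mk F φ hφ).rep v = 0 ↔ φ v = 0 :=
  apply_rep_iff (Module.Dual.eval F (Fin 3 → F) v) hφ

theorem mk_mem_axesAt {v : Fin 3 → F} {φ : (Fin 3 → F) →ₗ[F] F} {hφ : φ ≠ 0} :
    Projectivization.mk F φ hφ ∈ axesAt M v ↔ φ v = 0 ∧ Axis M φ := by
  rw [mem_axesAt, eval_rep_iff, rep_iff (p := Axis M) fun v a ha hv => axis_smul ha hv]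

/-- A transvection fixes only its centre among the points of a line through the centre other than its axis. -/
theorem fixed_point {φ ψ : (Fin 3 → F) →ₗ[F] F} {v : Fin 3 → F} (hv : v ≠ 0) (hφv : φ v = 0) (hφ : φ ≠ 0)
    (hψv : ψ v = 0) (hne : ψ ∉ F ∙ φ) {P : ℙ F (Fin 3 → F)} (hP : ψ P.rep = 0) (h : mapP (tv φ v) P = P) :
    P = Projectivization.mk F v hv := by
  rw [← Projectivization.mk_rep P] at h
  obtain ⟨a, ha⟩ := mapP_eq_self.1 h
  rw [act_tv hφv] at ha
  by_contra hne'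
  have hind : LinearIndependent F ![v, P.rep] := (LinearIndependent.pair_iff' hv).2 fun b hb => hne' (by
    rw [← Projectivization.mk_rep P, Projectivization.mk_eq_mk_iff']; exact ⟨b, hb⟩)
  have h0 := LinearIndependent.pair_iff.1 hind (φ P.rep) (1 - a) (by linear_combination (norm := module) ha)
  obtain ⟨e, he⟩ := prop_of_two hφ hind hφv h0.1 hψv hP
  exact hne (Submodule.mem_span_singleton.2 ⟨e, he.symm⟩)

/-- Dually for lines. -/
theorem fixed_line {φ : (Fin 3 → F) →ₗ[F] F} {v w : Fin 3 → F} (hv : v ≠ 0) (hφv : φ v = 0) (hφ : φ ≠ 0)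
    (hφw : φ w = 0) (hne : w ∉ F ∙ v) {L : ℙ F ((Fin 3 → F) →ₗ[F] F)} (hL : L.rep w = 0)
    (h : mapL (tv φ v) L = L) : L = Projectivization.mk F φ hφ := by
  rw [← Projectivization.mk_rep L, mapL_mk, Projectivization.mk_eq_mk_iff'] at h
  obtain ⟨a, ha⟩ := h
  rw [← Projectivization.mk_rep L, Projectivization.mk_eq_mk_iff']
  have hLv : L.rep v = 0 ∨ ∃ c : F, L.rep = c • φ := by
    rcases eq_or_ne (L.rep v) 0 with h0 | h0
    · exact Or.inl h0
    right
    refine ⟨((a - 1) / L.rep v)⁻¹, ?_⟩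
    have e : L.rep v • φ = (a - 1) • L.rep := by
      refine LinearMap.ext fun x => ?_
      have := LinearMap.congr_fun ha x
      simp only [LinearMap.smul_apply, LinearMap.comp_apply, act_tv hφv, map_add, map_smul, smul_eq_mul] at this ⊢
      linear_combination -this
    have ha1 : a - 1 ≠ 0 := fun e0 => by
      rw [e0, zero_smul, smul_eq_zero] at e
      exact e.elim h0 hφ
    rw [inv_div, div_eq_inv_mul, ← smul_smul, e, smul_smul, inv_mul_cancel₀ ha1, one_smul]
  rcases hLv with h0 | ⟨c, hc⟩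
  · have hind : LinearIndependent F ![v, w] := (LinearIndependent.pair_iff' hv).2 fun b hb =>
      hne (Submodule.mem_span_singleton.2 ⟨b, hb⟩)
    obtain ⟨e, he⟩ := prop_of_two hφ hind hφv hφw h0 hL
    exact ⟨e, he.symm⟩
  · exact ⟨c, hc.symm⟩

/-- The centres on a line which is not the only axis of one of its centres are one modulo the characteristic. -/
theorem centres_modEq {p : ℕ} [CharP F p] (hp : p.Prime) {φ ψ : (Fin 3 → F) →ₗ[F] F} {v : Fin 3 → F}
    (hv : Centre M v) (hf : Flag M v φ) (hφ : φ ≠ 0) (hψv : ψ v = 0) (hne : ψ ∉ F ∙ φ) :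
    (centresOn M ψ).card ≡ 1 [MOD p] := by
  classical
  obtain ⟨hφv, c, hc, hm⟩ := hf
  have hφc : φ (c • v) = 0 := by rw [map_smul, hφv, smul_zero]
  refine modEq_one_of_fixed hp (f := mapP (tv φ (c • v))) (fun P hP => ?_) (fun P _ => ?_)
    (P := Projectivization.mk F v hv.1) (mk_mem_centresOn.2 ⟨hψv, hv⟩) ?_ fun P hP hPf => ?_
  · rw [mem_centresOn] at hP ⊢
    refine ⟨?_, centre_mapP hm hP.2⟩
    rw [← Projectivization.mk_rep P, mapP_mk, apply_rep_iff, act_tv hφc, map_add, map_smul, map_smul, hψv, hP.1]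
    simp
  · rw [mapP_iterate, tv_pow_char hφc, mapP_one]
  · rw [mapP_eq_self]; exact ⟨1, by rw [act_tv hφc, hφv]; simp⟩
  · rw [mem_centresOn] at hP
    rw [fixed_point (smul_ne_zero hc hv.1) hφc hφ (by rw [map_smul, hψv, smul_zero]) hne hP.1 hPf,
      Projectivization.mk_eq_mk_iff']
    exact ⟨c, rfl⟩

/-- The axes through a point which is not the only centre of one of its axes are one modulo the characteristic. -/
theorem axes_modEq {p : ℕ} [CharP F p] (hp : p.Prime) {φ : (Fin 3 → F) →ₗ[F] F} {v w : Fin 3 → F}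
    (hφ : Axis M φ) (hf : Flag M v φ) (hv : v ≠ 0) (hφw : φ w = 0) (hne : w ∉ F ∙ v) :
    (axesAt M w).card ≡ 1 [MOD p] := by
  classical
  obtain ⟨hφv, c, hc, hm⟩ := hf
  have hφc : φ (c • v) = 0 := by rw [map_smul, hφv, smul_zero]
  have hw : act (tv φ (c • v)) w = w := by rw [act_tv hφc, hφw, zero_smul, add_zero]
  refine modEq_one_of_fixed hp (f := mapL (tv φ (c • v))) (fun L hL => ?_) (fun L _ => ?_)
    (P := Projectivization.mk F φ hφ.1) (mk_mem_axesAt.2 ⟨hφw, hφ⟩) ?_ fun L hL hLf => ?_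
  · rw [mem_axesAt] at hL ⊢
    refine ⟨?_, axis_mapL hm hL.2⟩
    rw [← Projectivization.mk_rep L, mapL_mk, eval_rep_iff, LinearMap.comp_apply, hw, hL.1]
  · rw [mapL_iterate, tv_pow_char hφc, mapL_one]
  · rw [mapL_mk, Projectivization.mk_eq_mk_iff']
    exact ⟨1, LinearMap.ext fun x => by simp [act_tv hφc, hφv]⟩
  · rw [mem_axesAt] at hL
    refine fixed_line (smul_ne_zero hc hv) hφc hφ.1 hφw (fun h => hne ?_) hL.1 hLf
    obtain ⟨r, hr⟩ := Submodule.mem_span_singleton.1 h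
    exact Submodule.mem_span_singleton.2 ⟨r * c, by rw [← smul_smul, hr]⟩

/-- Four centres modulo four, from two transvections with one centre. -/
theorem centres_modEq_four [CharP F 2] {ψ a b : (Fin 3 → F) →ₗ[F] F} {v : Fin 3 → F} (hv : Centre M v)
    (h0 : ψ ≠ 0) (hψv : ψ v = 0) (hav : a v = 0) (hbv : b v = 0) (ha : tv a v ∈ M) (hb : tv b v ∈ M) (ha' : a ∉ F ∙ ψ)
    (hb' : b ∉ F ∙ ψ) (hab : a + b ∉ F ∙ ψ) : (centresOn M ψ).card ≡ 1 [MOD 4] := by
  classical
  have hne : ∀ {d : (Fin 3 → F) →ₗ[F] F}, ψ ≠ 0 → d ∉ F ∙ ψ → d ≠ 0 ∧ ψ ∉ F ∙ d := fun {d} h0 h =>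
    ⟨fun e => h (e ▸ Submodule.zero_mem _), fun e => by
      obtain ⟨r, hr⟩ := Submodule.mem_span_singleton.1 e
      have hr0 : r ≠ 0 := by rintro rfl; rw [zero_smul] at hr; exact h0 hr.symm
      exact h (Submodule.mem_span_singleton.2 ⟨r⁻¹, by rw [← hr, inv_smul_smul₀ hr0]⟩)⟩
  obtain ⟨X, hX⟩ : ∃ X, X = (centresOn M ψ).erase (Projectivization.mk F v hv.1) := ⟨_, rfl⟩
  have hP : Projectivization.mk F v hv.1 ∈ centresOn M ψ := mk_mem_centresOn.2 ⟨hψv, hv⟩
  have hpres : ∀ d : (Fin 3 → F) →ₗ[F] F, d v = 0 → tv d v ∈ M → ∀ P ∈ X, mapP (tv d v) P ∈ X := by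
    intro d hd hdm P hP'
    rw [hX, Finset.mem_erase, mem_centresOn] at hP' ⊢
    refine ⟨fun e => hP'.1 ?_, ?_, centre_mapP hdm hP'.2.2⟩
    · have h1 := congrArg (mapP (tv d v)⁻¹) e
      rw [mapP_mul, inv_mul_cancel, mapP_one] at h1
      rw [h1, mapP_eq_self]
      exact ⟨1, by rw [act_tv_inv hd, hd]; simp⟩
    · rw [← Projectivization.mk_rep P, mapP_mk, apply_rep_iff, act_tv hd, map_add, map_smul, hψv, hP'.2.1]
      simp
  have hinv : ∀ d : (Fin 3 → F) →ₗ[F] F, d v = 0 → ∀ P, mapP (tv d v) (mapP (tv d v) P) = P := fun d hd P => by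
    rw [mapP_mul, ← pow_two, tv_pow_char hd, mapP_one]
  have hfix : ∀ d : (Fin 3 → F) →ₗ[F] F, d v = 0 → d ∉ F ∙ ψ → ∀ P ∈ X, mapP (tv d v) P ≠ P := fun d hd hd' P hP' e => by
    rw [hX, Finset.mem_erase, mem_centresOn] at hP'
    exact hP'.1 (fixed_point hv.1 hd (hne h0 hd').1 hψv (hne h0 hd').2 hP'.2.1 e)
  have h4 := four_dvd (mapP (tv a v)) (mapP (tv b v)) X (hpres a hav ha) (hpres b hbv hb) (fun P _ => hinv a hav P)
    (fun P _ => hinv b hbv P) (fun P _ => by rw [mapP_mul, mapP_mul, tv_add a b v hav hbv, tv_add b a v hbv hav, add_comm])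
    (hfix a hav ha') (hfix b hbv hb') (fun P hP' => by
      rw [mapP_mul, tv_add a b v hav hbv]
      exact hfix (a + b) (by simp [hav, hbv]) hab P hP')
  rw [← Finset.card_erase_add_one hP, ← hX]
  obtain ⟨j, hj⟩ := h4
  rw [hj, Nat.ModEq, Nat.mul_add_mod]

/-- Dually for axes. -/
theorem axes_modEq_four [CharP F 2] {φ : (Fin 3 → F) →ₗ[F] F} {w a b : Fin 3 → F} (hφ : Axis M φ) (hw : w ≠ 0)
    (hφw : φ w = 0) (hφa : φ a = 0) (hφb : φ b = 0) (ha : tv φ a ∈ M) (hb : tv φ b ∈ M) (ha' : a ∉ F ∙ w)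
    (hb' : b ∉ F ∙ w) (hab : a + b ∉ F ∙ w) : (axesAt M w).card ≡ 1 [MOD 4] := by
  classical
  have hne : ∀ {d : Fin 3 → F}, d ∉ F ∙ w → d ≠ 0 ∧ w ∉ F ∙ d := fun {d} h =>
    ⟨fun e => h (e ▸ Submodule.zero_mem _), fun e => by
      obtain ⟨r, hr⟩ := Submodule.mem_span_singleton.1 e
      have hr0 : r ≠ 0 := by rintro rfl; rw [zero_smul] at hr; exact hw hr.symm
      exact h (Submodule.mem_span_singleton.2 ⟨r⁻¹, by rw [← hr, inv_smul_smul₀ hr0]⟩)⟩
  obtain ⟨X, hX⟩ : ∃ X, X = (axesAt M w).erase (Projectivization.mk F φ hφ.1) := ⟨_, rfl⟩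
  have hL : Projectivization.mk F φ hφ.1 ∈ axesAt M w := mk_mem_axesAt.2 ⟨hφw, hφ⟩
  have hself : ∀ d : Fin 3 → F, φ d = 0 → mapL (tv φ d) (Projectivization.mk F φ hφ.1) = Projectivization.mk F φ hφ.1 :=
    fun d hd => by
      rw [mapL_mk, Projectivization.mk_eq_mk_iff']
      exact ⟨1, LinearMap.ext fun x => by simp [act_tv hd, hd]⟩
  have hinv : ∀ d : Fin 3 → F, φ d = 0 → ∀ L, mapL (tv φ d) (mapL (tv φ d) L) = L := fun d hd L => by
    rw [mapL_mul, ← pow_two, tv_pow_char hd, mapL_one]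
  have hpres : ∀ d : Fin 3 → F, φ d = 0 → tv φ d ∈ M → ∀ L ∈ X, mapL (tv φ d) L ∈ X := by
    intro d hd hdm L hL'
    rw [hX, Finset.mem_erase, mem_axesAt] at hL' ⊢
    refine ⟨fun e => hL'.1 ?_, ?_, axis_mapL hdm hL'.2.2⟩
    · rw [← hinv d hd L, e, hself d hd]
    · rw [← Projectivization.mk_rep L, mapL_mk, eval_rep_iff, LinearMap.comp_apply, act_tv hd, hφw, zero_smul,
        add_zero, hL'.2.1]
  have hfix : ∀ d : Fin 3 → F, φ d = 0 → d ∉ F ∙ w → ∀ L ∈ X, mapL (tv φ d) L ≠ L := fun d hd hd' L hL' e => by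
    rw [hX, Finset.mem_erase, mem_axesAt] at hL'
    exact hL'.1 (fixed_line (hne hd').1 hd hφ.1 hφw (hne hd').2 hL'.2.1 e)
  have h4 := four_dvd (mapL (tv φ a)) (mapL (tv φ b)) X (hpres a hφa ha) (hpres b hφb hb) (fun L _ => hinv a hφa L)
    (fun L _ => hinv b hφb L) (fun L _ => by
      rw [mapL_mul, mapL_mul, tv_add_right φ a b hφa hφb, tv_add_right φ b a hφb hφa, add_comm])
    (hfix a hφa ha') (hfix b hφb hb') (fun L hL' => by
      rw [mapL_mul, tv_add_right φ b a hφb hφa]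
      exact hfix (b + a) (by simp [hφa, hφb]) (by rwa [add_comm]) L hL')
  rw [← Finset.card_erase_add_one hL, ← hX]
  obtain ⟨j, hj⟩ := h4
  rw [hj, Nat.ModEq, Nat.mul_add_mod]

/-- Of two independent vectors of a set with four pairwise independent members, one is avoided by two of them
and their sum. -/
theorem exists_pair_avoiding {V : Type*} [AddCommGroup V] [Module F V] {ι : Type*} [Fintype ι] (h : 4 ≤ Fintype.card ι)
    {f : ι → V} (hf : ∀ i j, i ≠ j → f i ∉ F ∙ f j) {ψ ψ' : V} (hψ : ψ' ∉ F ∙ ψ) :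
    (∃ i j, f i ∉ F ∙ ψ ∧ f j ∉ F ∙ ψ ∧ f i + f j ∉ F ∙ ψ) ∨
    (∃ i j, f i ∉ F ∙ ψ' ∧ f j ∉ F ∙ ψ' ∧ f i + f j ∉ F ∙ ψ') := by
  classical
  by_contra hcon
  push Not at hcon
  obtain ⟨hc1, hc2⟩ := hcon
  have huniq : ∀ χ : V, (Finset.univ.filter fun i => f i ∈ F ∙ χ).card ≤ 1 := fun χ => Finset.card_le_one.2 (by
    intro i hi j hj
    by_contra hij
    simp only [Finset.mem_filter, Finset.mem_univ, true_and] at hi hj
    obtain ⟨a, ha⟩ := Submodule.mem_span_singleton.1 hi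
    obtain ⟨b, hb⟩ := Submodule.mem_span_singleton.1 hj
    rcases eq_or_ne b 0 with rfl | hb0
    · refine hf j i (Ne.symm hij) ?_
      rw [← hb, zero_smul]
      exact Submodule.zero_mem _
    · exact hf i j hij (Submodule.mem_span_singleton.2 ⟨a * b⁻¹, by rw [← hb, smul_smul, mul_assoc,
        inv_mul_cancel₀ hb0, mul_one, ha]⟩))
  obtain ⟨G, hG⟩ : ∃ G, G = Finset.univ.filter fun i => f i ∉ F ∙ ψ ∧ f i ∉ F ∙ ψ' := ⟨_, rfl⟩
  have hG2 : 1 < G.card := by
    have h1 : Finset.univ ⊆ G ∪ ((Finset.univ.filter fun i => f i ∈ F ∙ ψ) ∪ Finset.univ.filter fun i => f i ∈ F ∙ ψ') :=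
      fun i _ => by simp only [hG, Finset.mem_union, Finset.mem_filter, Finset.mem_univ, true_and]; tauto
    have := (Finset.card_le_card h1).trans ((Finset.card_union_le _ _).trans
      (Nat.add_le_add_left (Finset.card_union_le _ _) _))
    have := huniq ψ
    have := huniq ψ'
    rw [Finset.card_univ] at *
    omega
  obtain ⟨i, hi, j, hj, hij⟩ := Finset.one_lt_card.1 hG2
  simp only [hG, Finset.mem_filter, Finset.mem_univ, true_and] at hi hj
  obtain ⟨r, hr⟩ := Submodule.mem_span_singleton.1 (hc1 i j hi.1 hj.1)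
  obtain ⟨r', hr'⟩ := Submodule.mem_span_singleton.1 (hc2 i j hi.2 hj.2)
  have hr0 : r' = 0 := by
    by_contra h0
    exact hψ (Submodule.mem_span_singleton.2 ⟨r'⁻¹ * r, by rw [← smul_smul, hr, ← hr', inv_smul_smul₀ h0]⟩)
  rw [hr0, zero_smul, eq_comm, add_eq_zero_iff_eq_neg] at hr'
  exact hf i j hij (by rw [hr']; exact Submodule.neg_mem _ (Submodule.mem_span_singleton_self _))

variable {K : Subalgebra F (Matrix (Fin 3) (Fin 3) F)} (hK : Cfsg.Geo.IsFieldSubalgebra 3 K)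
include hK

/-- The classes of centres. -/
noncomputable def centreClasses (M : Subgroup (GL (Fin 3) F)) : Finset (Cls F) := by
  classical
  haveI : Fintype (Cls F) := Fintype.ofFinite _
  exact Finset.univ.filter fun s => ∃ v, ∃ hv : v ≠ 0, cls hK (Projectivization.mk F v hv) = s ∧ Centre M v

/-- The classes of axes. -/
noncomputable def axisClasses (M : Subgroup (GL (Fin 3) F)) : Finset (Cls F) := by
  classical
  haveI : Fintype (Cls F) := Fintype.ofFinite _
  exact Finset.univ.filter fun t => ∃ φ, ∃ hφ : φ ≠ 0, clK hK (kL_ne hK hφ) = t ∧ Axis M φ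

variable (hC : ∀ g ∈ Cfsg.Geo.specialLinear (Fin 3) F, (g : Matrix (Fin 3) (Fin 3) F) ∈ K → g ∈ M)
include hC

theorem centre_iff {v : Fin 3 → F} (hv : v ≠ 0) :
    Centre M v ↔ cls hK (Projectivization.mk F v hv) ∈ centreClasses hK M := by
  classical
  simp only [centreClasses, Finset.mem_filter, Finset.mem_univ, true_and]
  exact ⟨fun h => ⟨v, hv, rfl, h⟩, fun ⟨w, hw, h, hwc⟩ => centre_of_cls hK hC hwc hv h⟩

theorem axis_iff {φ : (Fin 3 → F) →ₗ[F] F} (hφ : φ ≠ 0) :
    Axis M φ ↔ clK hK (kL_ne hK hφ) ∈ axisClasses hK M := by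
  classical
  simp only [axisClasses, Finset.mem_filter, Finset.mem_univ, true_and]
  exact ⟨fun h => ⟨φ, hφ, rfl, h⟩, fun ⟨w, hw, h, hwc⟩ => axis_of_cls hK hC hwc hφ h⟩

theorem card_centresOn {ψ : (Fin 3 → F) →ₗ[F] F} (hψ : ψ ≠ 0) :
    (centresOn M ψ).card = ∑ s ∈ centreClasses hK M, num hK (clK hK (kL_ne hK hψ) * s) := by
  classical
  haveI : Fintype (ℙ F (Fin 3 → F)) := Fintype.ofFinite _
  rw [Finset.card_eq_sum_card_fiberwise (f := cls hK) (t := centreClasses hK M) (fun P hP => by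
    rw [Finset.mem_coe, ← Projectivization.mk_rep P, ← centre_iff hK hC]
    exact (mem_centresOn.1 hP).2)]
  refine Finset.sum_congr rfl fun s hs => ?_
  rw [← card_line hK hψ, Nat.card_eq_fintype_card, Fintype.card_subtype]
  congr 1
  ext P
  simp only [Finset.mem_filter, mem_centresOn, Finset.mem_univ, true_and]
  refine ⟨fun h => ⟨h.1.1, h.2⟩, fun h => ⟨⟨h.1, ?_⟩, h.2⟩⟩
  rw [centre_iff hK hC P.rep_nonzero, Projectivization.mk_rep, h.2]
  exact hs

theorem card_axesAt {v : Fin 3 → F} (hv : v ≠ 0) :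
    (axesAt M v).card = ∑ t ∈ axisClasses hK M, num hK (t * cls hK (Projectivization.mk F v hv)) := by
  classical
  haveI : Finite ((Fin 3 → F) →ₗ[F] F) :=
    Finite.of_injective (fun φ : (Fin 3 → F) →ₗ[F] F => (φ : (Fin 3 → F) → F)) DFunLike.coe_injective
  haveI : Fintype (ℙ F ((Fin 3 → F) →ₗ[F] F)) := Fintype.ofFinite _
  have hcl : ∀ L : ℙ F ((Fin 3 → F) →ₗ[F] F), clK hK (kL_ne hK L.rep_nonzero) = clsL hK L := fun L => rfl
  rw [Finset.card_eq_sum_card_fiberwise (f := clsL hK) (t := axisClasses hK M) (fun L hL => by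
    rw [Finset.mem_coe, ← hcl, ← axis_iff hK hC L.rep_nonzero]
    exact (mem_axesAt.1 hL).2)]
  refine Finset.sum_congr rfl fun t ht => ?_
  rw [← card_pencil hK hv t, Nat.card_eq_fintype_card, Fintype.card_subtype]
  congr 1
  ext L
  simp only [Finset.mem_filter, mem_axesAt, Finset.mem_univ, true_and]
  refine ⟨fun h => ⟨h.1.1, h.2⟩, fun h => ⟨⟨h.1, ?_⟩, h.2⟩⟩
  rw [axis_iff hK hC L.rep_nonzero, hcl, h.2]
  exact ht

end Cfsg.Agent.MaxCl.SLThree.Cubic
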