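/-
An overgroup of the norm-one elements of a cubic field of even order in odd characteristic, not normalising the
field, contains a transvection.

Otherwise an involution is determined by its centre and by its axis. Two centres of one class on one axis are
inverse translates, so there are at most two; this is too few if every point is a centre, and otherwise it leaves
none, so that the involutions are isolated.
-/
import Cfsg.Agent.Lib.MaxCl.SLThree.Cubic.Geom
import Cfsg.Agent.Lib.MaxCl.SLThree.Cubic.SolvMain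
import Cfsg.Agent.Lib.ZStar.Main
import Cfsg.Agent.Lib.PCore.Basic

set_option autoImplicit false
set_option linter.unusedSectionVars false

namespace Cfsg.Agent.MaxCl.SLThree.Cubic

open scoped MatrixGroups Matrix LinearAlgebra.Projectivization
open Module (finrank)

variable {F : Type*} [Field F] [Fintype F] {M : Subgroup (GL (Fin 3) F)}

/-- An involution of `M` with centre `v` and axis `φ`. -/
def Hom (M : Subgroup (GL (Fin 3) F)) (v : Fin 3 → F) (φ : (Fin 3 → F) →ₗ[F] F) : Prop :=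
  φ v = 1 ∧ ∃ g ∈ M, ∀ x, act g x = -x + (2 * φ x) • v

theorem Hom.ne {v : Fin 3 → F} {φ : (Fin 3 → F) →ₗ[F] F} (h : Hom M v φ) : v ≠ 0 ∧ φ ≠ 0 :=
  ⟨fun e => by simpa [e] using h.1, fun e => by simpa [e] using h.1⟩

theorem Hom.smul {v : Fin 3 → F} {φ : (Fin 3 → F) →ₗ[F] F} (h : Hom M v φ) {a : F} (ha : a ≠ 0) :
    Hom M (a • v) (a⁻¹ • φ) := by
  obtain ⟨h1, g, hg, e⟩ := h
  refine ⟨by simp [h1, ha], g, hg, fun x => ?_⟩
  rw [e, LinearMap.smul_apply, smul_smul, smul_eq_mul]
  congr 2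
  field_simp

theorem Hom.conj {v : Fin 3 → F} {φ : (Fin 3 → F) →ₗ[F] F} (h : Hom M v φ) {m : GL (Fin 3) F} (hm : m ∈ M) :
    Hom M (act m v) (φ ∘ₗ act m⁻¹) := by
  obtain ⟨h1, g, hg, e⟩ := h
  refine ⟨by simp [act_inv_act, h1], m * g * m⁻¹, M.mul_mem (M.mul_mem hm hg) (M.inv_mem hm), fun x => ?_⟩
  rw [act_mul, act_mul, e, map_add, map_neg, map_smul, act_act_inv, LinearMap.comp_apply]

theorem Hom.fix {v : Fin 3 → F} {φ : (Fin 3 → F) →ₗ[F] F} (h1 : φ v = 1) {g : GL (Fin 3) F}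
    (e : ∀ x, act g x = -x + (2 * φ x) • v) : act g v = v := by
  rw [e, h1]; module

section noTransvection

variable (h2 : (2 : F) ≠ 0)
  (hno : ∀ (φ : (Fin 3 → F) →ₗ[F] F) (v : Fin 3 → F), φ ≠ 0 → v ≠ 0 → φ v = 0 → tv φ v ∉ M)
include h2 hno

theorem axis_unique {v : Fin 3 → F} {φ χ : (Fin 3 → F) →ₗ[F] F} (h : Hom M v φ) (h' : Hom M v χ) : φ = χ := by
  obtain ⟨h1, g, hg, e⟩ := h
  obtain ⟨h1', g', hg', e'⟩ := h'
  by_contra hne
  exact hno _ _ (smul_ne_zero h2 (sub_ne_zero.2 (Ne.symm hne))) (fun e0 => by simp [e0] at h1)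
    (by simp [h1, h1']) (tv_of_homologies hg hg' h1 h1' e e')

theorem centre_unique {v w : Fin 3 → F} {φ : (Fin 3 → F) →ₗ[F] F} (h : Hom M v φ) (h' : Hom M w φ) : v = w := by
  obtain ⟨h1, g, hg, e⟩ := h
  obtain ⟨h1', g', hg', e'⟩ := h'
  by_contra hne
  exact hno _ _ (fun e0 => by simp [e0] at h1) (smul_ne_zero h2 (sub_ne_zero.2 hne))
    (by simp [h1, h1']) (tv_of_homologies' hg hg' h1 h1' e e')

theorem symm_of_mem {v w : Fin 3 → F} {φ χ : (Fin 3 → F) →ₗ[F] F} (h : Hom M v φ) (h' : Hom M w χ)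
    (hw : φ w = 0) : χ v = 0 := by
  obtain ⟨h1, g, hg, e⟩ := h
  have hgw : act g w = -w := by rw [e, hw]; simp
  have h3 := (h'.conj hg).smul (a := (-1 : F)) (by norm_num)
  rw [hgw, smul_neg, neg_one_smul, neg_neg] at h3
  have e' := LinearMap.congr_fun (axis_unique h2 hno h' h3) v
  have hgi : act g⁻¹ v = v := by conv_lhs => rw [← Hom.fix h1 e, act_inv_act]
  simp only [LinearMap.smul_apply, LinearMap.comp_apply, hgi, inv_neg, inv_one, neg_one_smul] at e'
  exact (mul_eq_zero.1 (show (2 : F) * χ v = 0 by linear_combination e')).resolve_left h2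

/-- The third centre of two commuting involutions. -/
theorem exists_third (hMS : M ≤ Cfsg.Geo.specialLinear (Fin 3) F) {v w : Fin 3 → F}
    {φ χ : (Fin 3 → F) →ₗ[F] F} (h : Hom M v φ) (h' : Hom M w χ) (hw : φ w = 0) :
    ∃ (u : Fin 3 → F) (θ : (Fin 3 → F) →ₗ[F] F), Hom M u θ ∧ φ u = 0 ∧ χ u = 0 ∧ θ v = 0 ∧ θ w = 0 := by
  have hv := symm_of_mem h2 hno h h' hw
  obtain ⟨h1, g, hg, e⟩ := h
  obtain ⟨h1', g', hg', e'⟩ := h'
  have hp : ∀ x, act (g * g') x = x - (2 * φ x) • v - (2 * χ x) • w := fun x => by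
    rw [act_mul, e', e, map_add, map_neg, map_smul, hw]
    simp
    module
  have hsq : (g * g') * (g * g') = 1 := gl_ext fun x => by
    rw [act_mul, act_one, hp (act (g * g') x), hp x]
    simp only [map_sub, map_smul, smul_eq_mul, h1, h1', hv, hw]
    module
  have hgv : act (g * g') v = -v := by rw [hp, h1, hv]; module
  have hgw : act (g * g') w = -w := by rw [hp, hw, h1']; module
  have hne : g * g' ≠ 1 := fun e0 => by
    rw [e0, act_one] at hgv
    have := congrArg φ hgv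
    rw [map_neg, h1] at this
    exact h2 (by linear_combination this)
  obtain ⟨θ, u, hu1, hu⟩ := exists_homology_of_sq h2 (hMS (M.mul_mem hg hg')) hsq hne
  have hu0 : u ≠ 0 := fun e0 => by simp [e0] at hu1
  have key : ∀ y, act (g * g') y = -y → θ y = 0 := fun y hy => by
    rw [hu, add_eq_left, smul_eq_zero] at hy
    exact (mul_eq_zero.1 (hy.resolve_right hu0)).resolve_left h2
  have hfix : act (g * g') u = u := Hom.fix hu1 hu
  rw [hp] at hfix
  refine ⟨u, θ, ⟨hu1, g * g', M.mul_mem hg hg', hu⟩, ?_, ?_, key v hgv, key w hgw⟩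
  · have := congrArg φ hfix
    simp only [map_sub, map_smul, smul_eq_mul, h1, hw] at this
    exact (mul_eq_zero.1 (show (2 : F) * φ u = 0 by linear_combination -this)).resolve_left h2
  · have := congrArg χ hfix
    simp only [map_sub, map_smul, smul_eq_mul, h1', hv] at this
    exact (mul_eq_zero.1 (show (2 : F) * χ u = 0 by linear_combination -this)).resolve_left h2

end noTransvection

variable {K : Subalgebra F (Matrix (Fin 3) (Fin 3) F)} (hK : Cfsg.Geo.IsFieldSubalgebra 3 K)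
include hK

/-- A norm-one element fixing a point is a scalar. -/
theorem isScal_of_fix {d : GL (Fin 3) F} (hd : (d : Matrix (Fin 3) (Fin 3) F) ∈ K) {v : Fin 3 → F} (hv : v ≠ 0)
    {a : F} (h : act d v = a • v) : IsScal (d : Matrix (Fin 3) (Fin 3) F) := by
  refine isScal_of_stab hK (k := ⟨_, hd⟩) (W := F ∙ v) (by simpa using hv) (fun e => ?_) fun w hw => ?_
  · have := congrArg (fun W : Submodule F (Fin 3 → F) => finrank F W) e
    simp [finrank_span_singleton hv, Module.finrank_pi] at this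
  · obtain ⟨s, rfl⟩ := Submodule.mem_span_singleton.1 hw
    rw [Matrix.mulVec_smul, ← act_apply, h]
    exact Submodule.smul_mem _ _ (Submodule.smul_mem _ _ (Submodule.mem_span_singleton_self v))

/-- A norm-one element with scalar square or cube is a scalar. -/
theorem isScal_of_pow {d : GL (Fin 3) F} (hS : d ∈ Cfsg.Geo.specialLinear (Fin 3) F)
    (hd : (d : Matrix (Fin 3) (Fin 3) F) ∈ K) {n : ℕ} (hn : n = 2 ∨ n = 3)
    (h : IsScal ((d : Matrix (Fin 3) (Fin 3) F) ^ n)) : IsScal (d : Matrix (Fin 3) (Fin 3) F) := by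
  obtain ⟨a, ha⟩ := h
  obtain ⟨v, hv⟩ : ∃ v, v = Fintype.card F ^ 2 + Fintype.card F + 1 := ⟨_, rfl⟩
  obtain ⟨X, hX⟩ : ∃ X, X = (d : Matrix (Fin 3) (Fin 3) F) := ⟨_, rfl⟩
  rw [← hX] at hd ha ⊢
  have hXv : X ^ v = 1 := by
    rw [hv, ← pow_det hK ⟨X, hd⟩]
    show X.det • (1 : Matrix (Fin 3) (Fin 3) F) = 1
    rw [hX, ← Matrix.GeneralLinearGroup.val_det_apply, MonoidHom.mem_ker.1 hS, Units.val_one, one_smul]
  have hodd : v % 2 = 1 := by
    rw [hv]
    have h2 : Fintype.card F ^ 2 % 2 = Fintype.card F % 2 := by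
      rcases Nat.mod_two_eq_zero_or_one (Fintype.card F) with h | h <;> simp [Nat.pow_mod, h]
    omega
  have hpow : ∀ j, X ^ (n * j) = (a ^ j) • 1 := fun j => by rw [pow_mul, ha, smul_pow, one_pow]
  -- powers congruent to one
  have key : ∀ i j : ℕ, n * j = i * v + 1 → IsScal X := fun i j e => by
    have h1 : X ^ (i * v + 1) = X := by rw [pow_succ, mul_comm i, pow_mul, hXv, one_pow, one_mul]
    exact ⟨a ^ j, by rw [← h1, ← e, hpow]⟩
  rcases hn with rfl | rfl
  · exact key 1 ((v + 1) / 2) (by omega)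
  obtain h | h | h : v % 3 = 2 ∨ v % 3 = 1 ∨ v % 3 = 0 := by omega
  · exact key 1 ((v + 1) / 3) (by omega)
  · exact key 2 ((2 * v + 1) / 3) (by omega)
  -- a third of the exponent gives a cube root of unity, hence a scalar
  obtain ⟨m, hm⟩ : ∃ m, v = 3 * m := ⟨v / 3, by omega⟩
  have hm3 : m % 3 ≠ 0 := by
    intro hm0
    have h9 : 9 ∣ v := ⟨m / 3, by omega⟩
    have : (v : ZMod 9) = 0 := (ZMod.natCast_eq_zero_iff v 9).2 h9
    rw [hv] at this
    push_cast at this
    generalize (Fintype.card F : ZMod 9) = t at this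
    revert t
    decide
  obtain ⟨w, hw3, hw1⟩ : ∃ w : F, w ^ 3 = 1 ∧ w ≠ 1 := by
    classical
    have hdiv : 3 ∣ Fintype.card Fˣ := by
      rw [Fintype.card_units]
      have hq : 1 < Fintype.card F := Fintype.one_lt_card
      have h3 : (v : ZMod 3) = 0 := (ZMod.natCast_eq_zero_iff v 3).2 ⟨m, hm⟩
      rw [hv] at h3
      push_cast at h3
      have h1 : (Fintype.card F : ZMod 3) = 1 := by
        generalize (Fintype.card F : ZMod 3) = t at h3 ⊢
        revert t
        decide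
      have h0 : ((Fintype.card F - 1 : ℕ) : ZMod 3) = 0 := by
        rw [Nat.cast_sub hq.le, h1]; simp
      exact (ZMod.natCast_eq_zero_iff _ 3).1 h0
    haveI : Fact (Nat.Prime 3) := ⟨Nat.prime_three⟩
    obtain ⟨u, hu⟩ := exists_prime_orderOf_dvd_card 3 hdiv
    refine ⟨u, by rw [← Units.val_pow_eq_pow_val, ← hu, pow_orderOf_eq_one, Units.val_one], fun e => ?_⟩
    rw [show u = 1 from Units.ext e, orderOf_one] at hu
    omega
  have hw : w ^ 2 + w + 1 = 0 :=
    (mul_eq_zero.1 (show (w - 1) * (w ^ 2 + w + 1) = 0 by linear_combination hw3)).resolve_left (sub_ne_zero.2 hw1)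
  have hy : IsScal (X ^ m) := by
    haveI := isDomain hK
    letI : CommRing K := { (inferInstance : Ring K) with mul_comm := fun x y => Subtype.ext (hK.comm _ x.2 _ y.2) }
    obtain ⟨y, hyd⟩ : ∃ y : K, (y : Matrix (Fin 3) (Fin 3) F) = X ^ m := ⟨⟨_, pow_mem hd m⟩, rfl⟩
    have hy3 : y ^ 3 = 1 := Subtype.ext (by
      rw [SubmonoidClass.coe_pow, hyd, ← pow_mul, mul_comm, ← hm, hXv, Subalgebra.coe_one])
    obtain ⟨W, hW⟩ : ∃ W : K, W = algebraMap F K w := ⟨_, rfl⟩
    have hW' : W ^ 2 + W + 1 = 0 := by rw [hW, ← map_pow, ← map_one (algebraMap F K), ← map_add, ← map_add, hw, map_zero]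
    have hsc : ∀ b : F, ((algebraMap F K b : K) : Matrix (Fin 3) (Fin 3) F) = b • 1 := fun b => by
      simp [Algebra.algebraMap_eq_smul_one]
    have h0 : (y - 1) * ((y - W) * (y - W ^ 2)) = 0 := by
      linear_combination hy3 + (-y ^ 2 + W * y - W + 1) * hW'
    rw [← hyd]
    rcases mul_eq_zero.1 h0 with h | h
    · exact ⟨1, by rw [sub_eq_zero.1 h]; simp⟩
    rcases mul_eq_zero.1 h with h | h
    · exact ⟨w, by rw [sub_eq_zero.1 h, hW, hsc]⟩
    · exact ⟨w ^ 2, by rw [sub_eq_zero.1 h, hW, ← map_pow, hsc]⟩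
  obtain ⟨b, hb⟩ := hy
  have hcomb : ∀ i j, IsScal (X ^ (3 * i + m * j)) := fun i j =>
    ⟨a ^ i * b ^ j, by rw [pow_add, hpow, pow_mul, hb, smul_pow, one_pow, smul_mul_smul_comm, one_mul]⟩
  have hkey : ∀ e, e = v + 1 → IsScal (X ^ e) → IsScal X := fun e he h => by
    rwa [he, pow_succ, hXv, one_mul] at h
  obtain h | h : m % 3 = 1 ∨ m % 3 = 2 := by omega
  · exact hkey _ (by omega) (hcomb ((v + 1 - m) / 3) 1)
  · exact hkey _ (by omega) (hcomb ((v + 1 - 2 * m) / 3) 2)

theorem act_comm {d e : GL (Fin 3) F} (hd : (d : Matrix (Fin 3) (Fin 3) F) ∈ K)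
    (he : (e : Matrix (Fin 3) (Fin 3) F) ∈ K) (x : Fin 3 → F) : act d (act e x) = act e (act d x) := by
  rw [← act_mul, ← act_mul, show d * e = e * d from Units.ext (hK.comm _ hd _ he)]

variable (hMS : M ≤ Cfsg.Geo.specialLinear (Fin 3) F)
  (hC : ∀ g ∈ Cfsg.Geo.specialLinear (Fin 3) F, (g : Matrix (Fin 3) (Fin 3) F) ∈ K → g ∈ M)
  (h2 : (2 : F) ≠ 0) (hno : ∀ (φ : (Fin 3 → F) →ₗ[F] F) (v : Fin 3 → F), φ ≠ 0 → v ≠ 0 → φ v = 0 → tv φ v ∉ M)
include hMS hC h2 hno

/-- Two translates of a centre on its axis are inverse. -/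
theorem parallel_of_two {x : Fin 3 → F} {φ : (Fin 3 → F) →ₗ[F] F} (h : Hom M x φ) {d e : GL (Fin 3) F}
    (hd : d ∈ M) (hdK : (d : Matrix (Fin 3) (Fin 3) F) ∈ K) (he : e ∈ M) (heK : (e : Matrix (Fin 3) (Fin 3) F) ∈ K)
    (hdx : φ (act d x) = 0) (hex : φ (act e x) = 0) (hne : ∀ a : F, act e x ≠ a • act d x) :
    ∃ a : F, act e⁻¹ x = a • act d x := by
  have h1 := h.conj hd
  have h2' := h.conj (M.inv_mem he)
  rw [inv_inv] at h2'
  have hs1 : φ (act d⁻¹ x) = 0 := (symm_of_mem h2 hno h h1 hdx :)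
  have hs2 : φ (act e⁻¹ x) = 0 := (symm_of_mem h2 hno h (h.conj he) hex :)
  obtain ⟨w, hw⟩ : ∃ w, w = act d (act e⁻¹ x) := ⟨_, rfl⟩
  have hind : LinearIndependent F ![x, w] := (LinearIndependent.pair_iff' h.ne.1).2 fun a ha => by
    have h3 := congrArg (act e) ha
    rw [hw, map_smul, ← act_comm hK hdK heK, act_act_inv] at h3
    rcases eq_or_ne a 0 with rfl | ha0
    · rw [zero_smul] at ha
      exact h.ne.1 (act_injective _ (act_injective _ ((hw ▸ ha.symm).trans (by simp : (0 : Fin 3 → F) = act d (act e⁻¹ 0)))))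
    · exact hne a⁻¹ (by rw [← h3, inv_smul_smul₀ ha0])
  obtain ⟨r, hr⟩ := prop_of_two (φ := φ ∘ₗ act e) (χ := φ ∘ₗ act d⁻¹) h1.ne.2 hind
    (by rw [LinearMap.comp_apply, hs1]) (by rw [LinearMap.comp_apply, hw, act_inv_act, hs2])
    (by rw [LinearMap.comp_apply, hex])
    (by rw [LinearMap.comp_apply, hw, ← act_comm hK hdK heK, act_act_inv, hdx])
  have hr0 : r ≠ 0 := by
    rintro rfl
    rw [zero_smul] at hr
    exact h2'.ne.2 hr
  refine ⟨r⁻¹, ?_⟩
  have h3 := h1.smul (inv_ne_zero hr0)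
  rw [inv_inv, ← hr] at h3
  exact centre_unique h2 hno h2' h3

/-- No two axes pass through a translate and its inverse unless trivial. -/
theorem not_scal_translate {x : Fin 3 → F} {φ : (Fin 3 → F) →ₗ[F] F} (h : Hom M x φ) {d : GL (Fin 3) F}
    (hdx : φ (act d x) = 0) : ¬ IsScal (d : Matrix (Fin 3) (Fin 3) F) := by
  rintro ⟨a, ha⟩
  rw [act_apply, ha, Matrix.smul_mulVec, Matrix.one_mulVec, map_smul, h.1, smul_eq_mul, mul_one] at hdx
  have := (Matrix.isUnit_iff_isUnit_det _).1 d.isUnit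
  rw [ha, hdx] at this
  simp at this

theorem inv_ne {x : Fin 3 → F} {φ : (Fin 3 → F) →ₗ[F] F} (h : Hom M x φ) {d : GL (Fin 3) F} (hd : d ∈ M)
    (hdK : (d : Matrix (Fin 3) (Fin 3) F) ∈ K) (hdx : φ (act d x) = 0) (a : F) : act d x ≠ a • act d⁻¹ x := by
  intro e
  have e2 := congrArg (act d) e
  rw [map_smul, act_act_inv, ← act_mul] at e2
  have hmem : ((d * d : GL (Fin 3) F) : Matrix (Fin 3) (Fin 3) F) ∈ K := by rw [Units.val_mul]; exact K.mul_mem hdK hdK
  have := isScal_of_fix hK hmem h.ne.1 e2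
  rw [Units.val_mul, ← pow_two] at this
  exact not_scal_translate hK hMS hC h2 hno h hdx (isScal_of_pow hK (hMS hd) hdK (Or.inl rfl) this)

/-- The translate of a centre onto another one of the same class. -/
theorem exists_translate {x y : Fin 3 → F} (hx : x ≠ 0) (hy : y ≠ 0)
    (h : cls hK (Projectivization.mk F x hx) = cls hK (Projectivization.mk F y hy)) :
    ∃ d ∈ M, (d : Matrix (Fin 3) (Fin 3) F) ∈ K ∧ ∃ r : F, r ≠ 0 ∧ act d x = r • y := by
  obtain ⟨g, r, hg1, hg2, hr, hgv⟩ := exists_det_one hK hx hy h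
  exact ⟨g, hC g hg1 hg2, hg2, r, hr, hgv⟩

/-- An axis has two or no centres in the class of its own centre. -/
theorem card_own_class {x : Fin 3 → F} {φ : (Fin 3 → F) →ₗ[F] F} (h : Hom M x φ) :
    Nat.card {P : ℙ F (Fin 3 → F) // φ P.rep = 0 ∧ cls hK P = cls hK (Projectivization.mk F x h.ne.1)} = 0 ∨
    Nat.card {P : ℙ F (Fin 3 → F) // φ P.rep = 0 ∧ cls hK P = cls hK (Projectivization.mk F x h.ne.1)} = 2 := by
  classical
  rcases isEmpty_or_nonempty
    {P : ℙ F (Fin 3 → F) // φ P.rep = 0 ∧ cls hK P = cls hK (Projectivization.mk F x h.ne.1)} with hE | ⟨⟨P, hP, hPc⟩⟩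
  · exact Or.inl Nat.card_of_isEmpty
  right
  obtain ⟨d, hd, hdK, r, hr, hdx⟩ := exists_translate hK hMS hC h2 hno h.ne.1 P.rep_nonzero
    (by rw [Projectivization.mk_rep, hPc])
  have hd0 : φ (act d x) = 0 := by rw [hdx, map_smul, hP, smul_zero]
  have hdi : φ (act d⁻¹ x) = 0 := (symm_of_mem h2 hno h (h.conj hd) hd0 :)
  have hne : ∀ g : GL (Fin 3) F, act g x ≠ 0 := fun g e => h.ne.1 (act_injective g (e.trans (map_zero _).symm))
  obtain ⟨P', hP'⟩ : ∃ P', P' = Projectivization.mk F _ (hne d⁻¹) := ⟨_, rfl⟩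
  have hP'c : cls hK P' = cls hK (Projectivization.mk F x h.ne.1) := by
    have hi : ((d⁻¹ : GL (Fin 3) F) : Matrix (Fin 3) (Fin 3) F) ∈ K := by
      obtain ⟨y, hy, hy1⟩ := hK.inv _ hdK d.ne_zero
      rwa [Units.inv_eq_of_mul_eq_one_right hy1]
    have hk : (⟨_, hi⟩ : K) ≠ 0 := fun e => d⁻¹.ne_zero (congrArg Subtype.val e)
    have e1 : P' = mulP hK hk (Projectivization.mk F x h.ne.1) := by
      rw [hP', mulP, Projectivization.map_mk]
      congr 1
    rw [e1, cls_mulP]
    convert one_mul _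
    rw [clK, QuotientGroup.eq_one_iff]
    refine ⟨1, Units.ext ?_⟩
    simp only [powMonoidHom_apply, one_pow, Units.val_one, Units.val_mk0]
    rw [← Matrix.GeneralLinearGroup.val_det_apply, MonoidHom.mem_ker.1 (hMS (M.inv_mem hd)), Units.val_one]
  have hfl : φ P'.rep = 0 := by rw [hP', apply_rep_iff]; exact hdi
  rw [Nat.card_eq_two_iff]
  refine ⟨⟨P, hP, hPc⟩, ⟨P', hfl, hP'c⟩, fun e => ?_, Set.eq_univ_of_forall fun ⟨Q, hQ, hQc⟩ => ?_⟩
  · have e' := congrArg Subtype.val e
    simp only at e'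
    rw [hP', ← Projectivization.mk_rep P, Projectivization.mk_eq_mk_iff'] at e'
    obtain ⟨a, ha⟩ := e'
    exact inv_ne hK hMS hC h2 hno h hd hdK hd0 (r * a) (by rw [hdx, ← ha, smul_smul])
  · obtain ⟨e, he, heK, s, hs, hex⟩ := exists_translate hK hMS hC h2 hno h.ne.1 Q.rep_nonzero
      (by rw [Projectivization.mk_rep, hQc])
    simp only [Set.mem_insert_iff, Set.mem_singleton_iff, Subtype.mk.injEq]
    by_cases hpar : ∃ a : F, act e x = a • act d x
    · left
      obtain ⟨a, ha⟩ := hpar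
      rw [← Projectivization.mk_rep Q, ← Projectivization.mk_rep P, Projectivization.mk_eq_mk_iff']
      exact ⟨s⁻¹ * (a * r), by rw [← smul_smul, ← smul_smul, ← hdx, ← ha, hex, inv_smul_smul₀ hs]⟩
    · right
      push Not at hpar
      obtain ⟨a, ha⟩ := parallel_of_two hK hMS hC h2 hno h hd hdK he heK hd0
        (by rw [hex, map_smul, hQ, smul_zero]) hpar
      have ha0 : a ≠ 0 := by rintro rfl; rw [zero_smul] at ha; exact hne _ ha
      have h4 := congrArg (act e) ha
      rw [act_act_inv, map_smul, act_comm hK heK hdK, hex, map_smul] at h4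
      rw [hP', ← Projectivization.mk_rep Q, Projectivization.mk_eq_mk_iff']
      refine ⟨s⁻¹ * a⁻¹, ?_⟩
      conv_lhs => rw [h4]
      rw [map_smul, map_smul, act_inv_act, smul_smul, smul_smul, mul_assoc, mul_assoc, ← mul_assoc a⁻¹,
        inv_mul_cancel₀ ha0, one_mul, inv_mul_cancel₀ hs, one_smul]

omit hno in
theorem exists_hom {g : GL (Fin 3) F} (hg : g ∈ M) (h1 : g * g = 1) (hne : g ≠ 1) :
    ∃ v φ, Hom M v φ ∧ ∀ x, act g x = -x + (2 * φ x) • v := by
  obtain ⟨φ, v, hv, e⟩ := exists_homology_of_sq h2 (hMS hg) h1 hne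
  exact ⟨v, φ, ⟨hv, g, hg, e⟩, e⟩

/-- The centres are one class of points, and none lies on the axis of another. -/
theorem isolated : ∀ x φ y ψ, Hom M x φ → Hom M y ψ → φ y ≠ 0 := by
  classical
  haveI : Fintype (ℙ F (Fin 3 → F)) := Fintype.ofFinite _
  haveI : Fintype (Cls F) := Fintype.ofFinite _
  intro x φ y ψ hx hy hy0
  obtain ⟨Cs, hCs⟩ : ∃ Cs : Finset (ℙ F (Fin 3 → F)), Cs = Finset.univ.filter fun P => ∃ θ, Hom M P.rep θ :=
    ⟨_, rfl⟩
  have hmem : ∀ {v : Fin 3 → F} {θ : (Fin 3 → F) →ₗ[F] F} (h : Hom M v θ), Projectivization.mk F v h.ne.1 ∈ Cs := by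
    intro v θ h
    rw [hCs, Finset.mem_filter]
    refine ⟨Finset.mem_univ _, ?_⟩
    rw [rep_iff (p := fun v => ∃ θ, Hom M v θ) fun v a ha ⟨θ, hθ⟩ => ⟨_, hθ.smul ha⟩]
    exact ⟨θ, h⟩
  have hcls : ∀ P Q : ℙ F (Fin 3 → F), P ∈ Cs → cls hK P = cls hK Q → Q ∈ Cs := by
    intro P Q hP h
    rw [hCs, Finset.mem_filter] at hP ⊢
    obtain ⟨-, θ, hθ⟩ := hP
    obtain ⟨d, hd, -, r, hr, hdx⟩ := exists_translate hK hMS hC h2 hno P.rep_nonzero Q.rep_nonzero
      (by rw [Projectivization.mk_rep, Projectivization.mk_rep, h])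
    have h3 := (hθ.conj hd).smul (inv_ne_zero hr)
    rw [hdx, inv_smul_smul₀ hr] at h3
    exact ⟨Finset.mem_univ _, _, h3⟩
  have hv1 : Odd (Nat.card {P : ℙ F (Fin 3 → F) // cls hK P = 1}) := by
    refine Nat.Odd.of_mul_right (m := Nat.card (Cls F)) ?_
    rw [card_mul hK, Nat.odd_iff]
    have h2 : Fintype.card F ^ 2 % 2 = Fintype.card F % 2 := by
      rcases Nat.mod_two_eq_zero_or_one (Fintype.card F) with h | h <;> simp [Nat.pow_mod, h]
    omega
  -- the centres are odd in number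
  have hodd : Odd Cs.card := by
    obtain ⟨g, hg, eg⟩ := hx.2
    have hgg : ∀ v, act g (act g v) = v := fun v => by
      rw [eg (act g v), eg v, map_add, map_neg, map_smul, hx.1]; simp; module
    have hmap : ∀ P, mapP g (mapP g P) = P := fun P => by
      rw [mapP_mul]
      conv_rhs => rw [← mapP_one P]
      congr 1
      exact gl_ext fun v => by rw [act_mul, hgg, act_one]
    obtain ⟨A, hA⟩ : ∃ A : Finset (ℙ F (Fin 3 → F)), A = Cs.filter fun P => φ P.rep = 0 := ⟨_, rfl⟩
    have hg' : ∀ P ∈ Cs, mapP g P ∈ Cs := fun P hP => by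
      rw [hCs, Finset.mem_filter] at hP
      obtain ⟨-, θ, hθ⟩ := hP
      conv => arg 2; rw [← Projectivization.mk_rep P, mapP_mk]
      exact hmem (hθ.conj hg)
    have hfix : ∀ P : ℙ F (Fin 3 → F), φ P.rep = 0 → mapP g P = P := fun P hP => by
      rw [← Projectivization.mk_rep P, mapP_eq_self]
      exact ⟨-1, by rw [eg, hP]; simp⟩
    have hout : ∀ P ∈ Cs \ A, mapP g P ∈ Cs \ A := fun P hP => by
      rw [Finset.mem_sdiff] at hP ⊢
      refine ⟨hg' P hP.1, fun h => hP.2 ?_⟩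
      rw [hA, Finset.mem_filter] at h ⊢
      refine ⟨hP.1, ?_⟩
      have := hfix _ h.2
      rw [hmap] at this
      rw [this]; exact h.2
    have hnA : Projectivization.mk F x hx.ne.1 ∉ A := by
      rw [hA, Finset.mem_filter, apply_rep_iff]
      simp [hx.1]
    have h1 := modEq_one_of_fixed Nat.prime_two hout (fun P _ => hmap P)
      (P := Projectivization.mk F x hx.ne.1) (Finset.mem_sdiff.2 ⟨hmem hx, hnA⟩)
      (mapP_eq_self.2 ⟨1, by rw [one_smul, Hom.fix hx.1 eg]⟩) (fun P hP hPf => by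
        rw [← Projectivization.mk_rep P] at hPf ⊢
        obtain ⟨a, ha⟩ := mapP_eq_self.1 hPf
        rw [eg] at ha
        rw [Projectivization.mk_eq_mk_iff']
        have hφP : φ P.rep ≠ 0 := fun e => (Finset.mem_sdiff.1 hP).2 (by
          rw [hA, Finset.mem_filter]; exact ⟨(Finset.mem_sdiff.1 hP).1, e⟩)
        have h3 : (2 * φ P.rep) • x = (a + 1) • P.rep := by linear_combination (norm := module) ha
        rcases eq_or_ne (a + 1) 0 with h | h
        · rw [h, zero_smul, smul_eq_zero] at h3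
          exact absurd ((mul_eq_zero.1 (h3.resolve_right hx.ne.1)).resolve_left h2) hφP
        · exact ⟨(a + 1)⁻¹ * (2 * φ P.rep), by rw [← smul_smul, h3, inv_smul_smul₀ h]⟩)
    -- partners on the axis
    have heven : Even A.card := by
      have hpart : ∀ Q ∈ A, ∃! R, R ∈ A ∧ ∀ θ, Hom M Q.rep θ → θ R.rep = 0 := by
        intro Q hQ
        rw [hA, Finset.mem_filter, hCs, Finset.mem_filter] at hQ
        obtain ⟨⟨-, θ, hθ⟩, hQ0⟩ := hQ
        obtain ⟨u, η, hu, hu1, hu2, hu3, hu4⟩ := exists_third h2 hno hMS hx hθ hQ0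
        refine ⟨Projectivization.mk F u hu.ne.1, ⟨?_, fun θ' hθ' => ?_⟩, fun R ⟨hR, hRθ⟩ => ?_⟩
        · rw [hA, Finset.mem_filter]
          exact ⟨hmem hu, (apply_rep_iff φ hu.ne.1).2 hu1⟩
        · rw [axis_unique h2 hno hθ' hθ]
          exact (apply_rep_iff θ hu.ne.1).2 hu2
        · rw [hA, Finset.mem_filter] at hR
          by_contra hne
          have hind : LinearIndependent F ![u, R.rep] := (LinearIndependent.pair_iff' hu.ne.1).2 fun a ha => hne (by
            rw [← Projectivization.mk_rep R, Projectivization.mk_eq_mk_iff']; exact ⟨a, ha⟩)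
          obtain ⟨s, hs⟩ := prop_of_two hθ.ne.2 hind hu2 (hRθ θ hθ) hu1 hR.2
          have hs1 : s • θ Q.rep = (0 : F) := by rw [← LinearMap.smul_apply, ← hs, hQ0]
          rw [hθ.1, smul_eq_mul, mul_one] at hs1
          exact hx.ne.2 (by rw [hs, hs1, zero_smul])
      choose f hf using fun Q (hQ : Q ∈ A) => (hpart Q hQ).exists
      obtain ⟨f', hf'⟩ : ∃ f' : ℙ F (Fin 3 → F) → ℙ F (Fin 3 → F), ∀ Q (hQ : Q ∈ A), f' Q = f Q hQ :=
        ⟨fun Q => if hQ : Q ∈ A then f Q hQ else Q, fun Q hQ => dif_pos hQ⟩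
      have hfθ : ∀ Q ∈ A, ∃ θ, Hom M Q.rep θ := fun Q hQ => by
        rw [hA, Finset.mem_filter, hCs, Finset.mem_filter] at hQ; exact hQ.1.2
      have hinv : ∀ Q ∈ A, f' (f' Q) = Q := fun Q hQ => by
        rw [hf' Q hQ, hf' _ (hf Q hQ).1]
        refine (hpart _ (hf Q hQ).1).unique (hf _ (hf Q hQ).1) ⟨hQ, fun θ' hθ' => ?_⟩
        obtain ⟨θ, hθ⟩ := hfθ Q hQ
        exact symm_of_mem h2 hno hθ hθ' ((hf Q hQ).2 θ hθ)
      have hfp : ∀ Q ∈ A, f' Q ≠ Q := fun Q hQ e => by
        obtain ⟨θ, hθ⟩ := hfθ Q hQ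
        have := (hf Q hQ).2 θ hθ
        rw [← hf' Q hQ, e, hθ.1] at this
        exact one_ne_zero this
      have := Finset.prod_involution (s := A) (f := fun _ => (-1 : ℤ)) (fun Q _ => f' Q) (fun Q hQ => by simp)
        (fun Q hQ _ => hfp Q hQ) (fun Q hQ => hf' Q hQ ▸ (hf Q hQ).1) hinv
      rw [Finset.prod_const] at this
      exact (neg_one_pow_eq_one_iff_even (by norm_num)).1 this
    have hA' : A ⊆ Cs := hA ▸ Finset.filter_subset _ _
    rw [← Finset.card_sdiff_add_card_eq_card hA', Nat.odd_iff, Nat.add_mod, Nat.even_iff.1 heven, h1]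
  obtain ⟨T, hT⟩ : ∃ T : Finset (Cls F), T = Cs.image (cls hK) := ⟨_, rfl⟩
  have hTodd : Odd T.card := by
    rw [Finset.card_eq_sum_card_image (cls hK) Cs, ← hT, Finset.sum_congr rfl (fun s hs => show _ =
      Nat.card {P : ℙ F (Fin 3 → F) // cls hK P = 1} by
      rw [← card_cls hK s, Nat.card_eq_fintype_card, Fintype.card_subtype]
      congr 1
      ext Q
      simp only [Finset.mem_filter, Finset.mem_univ, true_and]
      refine ⟨fun h => h.2, fun h => ⟨?_, h⟩⟩
      rw [hT, Finset.mem_image] at hs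
      obtain ⟨P, hP, rfl⟩ := hs
      exact hcls P Q hP h.symm), Finset.sum_const, smul_eq_mul] at hodd
    exact Nat.Odd.of_mul_left hodd
  by_cases hall : T = Finset.univ
  · -- every point is a centre: some class meets a line at most twice
    have hk : ∀ s, ∃ t, num hK (t * s) = 2 := by
      intro s
      obtain ⟨P, hP, hPs⟩ := Finset.mem_image.1 (hT ▸ (hall ▸ Finset.mem_univ s) : s ∈ Cs.image (cls hK))
      rw [hCs, Finset.mem_filter] at hP
      obtain ⟨-, θ, hθ⟩ := hP
      refine ⟨clK hK (kL_ne hK hθ.ne.2), ?_⟩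
      have h3 := card_own_class hK hMS hC h2 hno hθ
      rw [card_line hK hθ.ne.2, Projectivization.mk_rep, hPs] at h3
      exact h3.resolve_left (num_pos hK _).ne'
    obtain ⟨t, ht⟩ := hk 1
    rw [mul_one] at ht
    have hq : 1 < Fintype.card F := Fintype.one_lt_card
    by_cases h3 : Nat.card (Cls F) = 3
    · haveI : Nontrivial (Cls F) := Finite.one_lt_card_iff_nontrivial.1 (by omega)
      obtain ⟨s, hs⟩ := exists_ne t
      obtain ⟨u, e1, e2⟩ := three_classes hK h3 hs.symm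
      rw [ht] at e1 e2
      have hq3 : (Fintype.card F - 1).gcd 3 = 3 := by rw [← card_Cls, h3]
      have hd : 3 ∣ Fintype.card F - 1 := hq3 ▸ Nat.gcd_dvd_left _ _
      have hqo : Fintype.card F % 2 = 1 := by
        rcases Nat.mod_two_eq_zero_or_one (Fintype.card F) with h | h
        · exact absurd (FiniteField.even_card_iff_char_two.2 h) fun hc => h2 (by
            simpa [hc] using CharP.cast_eq_zero F (ringChar F))
        · exact h
      have hle : Fintype.card F ≤ 11 := by zify at e1 e2; nlinarith [sq_nonneg ((num hK s : ℤ) - num hK u)]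
      have hq7 : Fintype.card F = 7 := by omega
      rw [hq7] at e1 e2
      have hu : num hK u = 6 - num hK s := by omega
      rw [hu] at e2
      have : num hK s ≤ 6 := by omega
      interval_cases (num hK s) <;> omega
    · haveI : Subsingleton (Cls F) := (Nat.card_eq_one_iff_unique.1 (one_class hK h3)).1
      have h1 := sum_num hK
      rw [Finset.sum_eq_single t (fun s _ hs => absurd (Subsingleton.elim s t) hs) (by simp), ht] at h1
      have : Fintype.card F ≠ 1 := hq.ne'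
      omega
  -- a single class of centres
  have hT1 : T.card = 1 := by
    have hlt : T.card < Fintype.card (Cls F) := (Finset.card_lt_iff_ne_univ _).2 hall
    have h3 : Fintype.card (Cls F) ≤ 3 := by
      rw [← Nat.card_eq_fintype_card, card_Cls]; exact Nat.le_of_dvd (by norm_num) (Nat.gcd_dvd_right _ _)
    obtain ⟨k, hk⟩ := hTodd
    omega
  have hone : ∀ {v θ w η}, Hom M v θ → (hw : Hom M w η) →
      ∀ hv : v ≠ 0, cls hK (Projectivization.mk F v hv) = cls hK (Projectivization.mk F w hw.ne.1) :=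
    fun h1 h2' hv => Finset.card_le_one.1 hT1.le _ (hT ▸ Finset.mem_image_of_mem _ (hmem h1)) _
      (hT ▸ Finset.mem_image_of_mem _ (hmem h2'))
  obtain ⟨d, hd, hdK, r, hr, hdx⟩ := exists_translate hK hMS hC h2 hno hx.ne.1 hy.ne.1 (hone hx hy hx.ne.1)
  have hd0 : φ (act d x) = 0 := by rw [hdx, map_smul, hy0, smul_zero]
  have hdh := hx.conj hd
  have hdi : φ (act d⁻¹ x) = 0 := (symm_of_mem h2 hno hx hdh hd0 :)
  obtain ⟨u, θ, hu, hu1, hu2, hu3, hu4⟩ := exists_third h2 hno hMS hx hdh hd0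
  obtain ⟨e, he, heK, s, hs, hex⟩ := exists_translate hK hMS hC h2 hno hx.ne.1 hu.ne.1 (hone hx hu hx.ne.1)
  have he0 : φ (act e x) = 0 := by rw [hex, map_smul, hu1, smul_zero]
  have hne : ∀ a : F, act e x ≠ a • act d x := by
    intro a ha
    have h3 : (φ ∘ₗ act d⁻¹) (act e x) = 0 := by rw [hex, map_smul, hu2, smul_zero]
    rw [ha, map_smul, LinearMap.comp_apply, act_inv_act, hx.1, smul_eq_mul, mul_one] at h3
    rw [h3, zero_smul] at ha
    exact hx.ne.1 (act_injective _ (ha.trans (map_zero _).symm))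
  obtain ⟨a, ha⟩ := parallel_of_two hK hMS hC h2 hno hx hd hdK he heK hd0 he0 hne
  -- the axis of the inverse translate passes through the translate
  have ha0 : a ≠ 0 := by
    rintro rfl
    rw [zero_smul] at ha
    exact hx.ne.1 (act_injective _ (ha.trans (map_zero _).symm))
  have h4 := congrArg (act e) ha
  rw [act_act_inv, map_smul, act_comm hK heK hdK, hex, map_smul] at h4
  have h5 : act d⁻¹ x = (a * s) • u := by
    conv_lhs => rw [h4]
    rw [map_smul, map_smul, act_inv_act, smul_smul]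
  have h6 := hu.smul (mul_ne_zero ha0 hs)
  rw [← h5] at h6
  have h7 := hx.conj (M.inv_mem hd)
  rw [inv_inv] at h7
  have h8 : φ (act d (act d x)) = 0 := by
    have := LinearMap.congr_fun (axis_unique h2 hno h7 h6) (act d x)
    simp only [LinearMap.comp_apply, LinearMap.smul_apply] at this
    rwa [show θ (act d x) = 0 from hu4, smul_zero] at this
  have hddK : ((d * d : GL (Fin 3) F) : Matrix (Fin 3) (Fin 3) F) ∈ K := by rw [Units.val_mul]; exact K.mul_mem hdK hdK
  have hns := not_scal_translate hK hMS hC h2 hno hx hd0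
  obtain ⟨b, hb⟩ := parallel_of_two hK hMS hC h2 hno hx hd hdK (M.mul_mem hd hd) hddK hd0
    (by rw [act_mul]; exact h8) (fun b hb => hns (by
      rw [act_mul, ← map_smul] at hb
      exact isScal_of_fix hK hdK hx.ne.1 (act_injective _ hb)))
  have hb0 : b ≠ 0 := by
    rintro rfl
    rw [zero_smul] at hb
    exact hx.ne.1 (act_injective _ (hb.trans (map_zero _).symm))
  have h9 := congrArg (act (d * d)) hb
  rw [act_act_inv, map_smul, ← act_mul] at h9
  have hmem3 : ((d * d * d : GL (Fin 3) F) : Matrix (Fin 3) (Fin 3) F) ∈ K := by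
    rw [Units.val_mul]; exact K.mul_mem hddK hdK
  have hsc := isScal_of_fix hK hmem3 hx.ne.1 (a := b⁻¹) (by conv_rhs => rw [h9, inv_smul_smul₀ hb0])
  rw [Units.val_mul, Units.val_mul, ← pow_two, ← pow_succ] at hsc
  exact hns (isScal_of_pow hK (hMS hd) hdK (Or.inr rfl) hsc)

omit hno

/-- An overgroup not normalising the field contains a transvection, given the odd order theorem. -/
theorem exists_tv (hFT : ∀ H : Subgroup (GL (Fin 3) F), Odd (Nat.card H) → Group.IsSolvable H)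
    (hnorm : ¬ M ≤ Cfsg.Geo.subalgebraNormalizer K) :
    ∃ (φ : (Fin 3 → F) →ₗ[F] F) (v : Fin 3 → F), φ ≠ 0 ∧ v ≠ 0 ∧ φ v = 0 ∧ tv φ v ∈ M := by
  classical
  by_contra hcon
  push Not at hcon
  haveI : Finite M := inferInstance
  obtain ⟨c, hc1, hc2, hc3, -⟩ := exists_irr hK
  have hc' : ¬ IsScal ((c : GL (Fin 3) F) : Matrix (Fin 3) (Fin 3) F) := by simpa using hc3 1 (one_dvd _)
  by_cases heven : Even (Nat.card M)
  swap
  · refine hnorm (le_normalizer_of_solvable hK hMS hC le_rfl (fun m hm o ho => M.mul_mem (M.mul_mem hm ho) (M.inv_mem hm))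
      (hFT M (Nat.not_even_iff_odd.1 heven)) ⟨c, hC c hc1 hc2, hc'⟩)
  haveI : Fact (Nat.Prime 2) := ⟨Nat.prime_two⟩
  obtain ⟨z, hz⟩ := exists_prime_orderOf_dvd_card' (G := M) 2 (even_iff_two_dvd.1 heven)
  have hz2 : z * z = 1 := by rw [← pow_two, ← hz, pow_orderOf_eq_one]
  have hz1 : z ≠ 1 := fun e => by rw [e, orderOf_one] at hz; omega
  have hsq : ((z : M) : GL (Fin 3) F) * z = 1 := by simpa using congrArg Subtype.val hz2
  have hne1 : ((z : M) : GL (Fin 3) F) ≠ 1 := fun e => hz1 (Subtype.ext e)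
  obtain ⟨v, φ, hv, ev⟩ := exists_hom hK hMS hC h2 z.2 hsq hne1
  -- the involution is isolated
  have hiso : IsIsolatedInvolution z := by
    refine ⟨hz, fun g hg => ?_⟩
    obtain ⟨w, hw⟩ : ∃ w : GL (Fin 3) F, w = ((g * z * g⁻¹ : M) : GL (Fin 3) F) := ⟨_, rfl⟩
    have hw2 : w * w = 1 := by
      rw [hw, ← Subgroup.coe_mul, show g * z * g⁻¹ * (g * z * g⁻¹) = g * (z * z) * g⁻¹ by group, hz2]
      simp
    have hw1 : w ≠ 1 := fun e => hz1 (by
      have : g * z * g⁻¹ = 1 := Subtype.ext (hw ▸ e)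
      calc z = g⁻¹ * (g * z * g⁻¹) * g := by group
        _ = 1 := by rw [this]; group)
    obtain ⟨u, ψ, hu, eu⟩ := exists_hom hK hMS hC h2 (hw ▸ (g * z * g⁻¹).2) hw2 hw1
    have hc : ∀ y, act ((z : M) : GL (Fin 3) F) (act w y) = act w (act ((z : M) : GL (Fin 3) F) y) := fun y => by
      rw [← act_mul, ← act_mul, hw, ← Subgroup.coe_mul, ← Subgroup.coe_mul, hg.eq]
    have h3 := hc v
    rw [Hom.fix hv.1 ev] at h3
    have hψ := isolated hK hMS hC h2 hcon u ψ v φ hu hv
    have h6 : (2 * ψ v) • (act ((z : M) : GL (Fin 3) F) u - u) = 0 := by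
      rw [eu, map_add, map_neg, Hom.fix hv.1 ev, map_smul] at h3
      linear_combination (norm := module) h3
    have hzu : act ((z : M) : GL (Fin 3) F) u = u :=
      sub_eq_zero.1 ((smul_eq_zero.1 h6).resolve_left (mul_ne_zero h2 hψ))
    have hfix : act w v = v := by
      rw [ev] at hzu
      have h7 : (2 : F) • u = (2 : F) • (φ u • v) := by linear_combination (norm := module) -hzu
      have h10 : u = φ u • v := smul_right_injective _ h2 h7
      have h11 := congrArg ψ h10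
      rw [map_smul, hu.1, smul_eq_mul] at h11
      rw [eu, h10, smul_smul, show 2 * ψ v * φ u = 2 by linear_combination -2 * h11]
      module
    have hpar : v = ψ v • u := by
      rw [eu] at hfix
      have h5 : (2 : F) • v = (2 : F) • (ψ v • u) := by linear_combination (norm := module) -hfix
      exact smul_right_injective _ h2 h5
    have hψ0 : ψ v ≠ 0 := fun e => hv.ne.1 (by rw [hpar, e, zero_smul])
    have h4 := hu.smul hψ0
    rw [← hpar] at h4
    have haxis := axis_unique h2 hcon hv h4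
    refine Subtype.ext (hw ▸ gl_ext fun y => ?_)
    rw [eu, ev, haxis]
    conv_rhs => rw [hpar]
    rw [LinearMap.smul_apply, smul_eq_mul, smul_smul]
    congr 2
    rw [map_smul, hu.1, smul_eq_mul, mul_one]
    field_simp
  have hO : ∀ g : M, g * z * g⁻¹ * z⁻¹ ∈ oddCore M := ZStar.inZStar hiso
  obtain ⟨O, hOdef⟩ : ∃ O, O = (oddCore M).map M.subtype := ⟨_, rfl⟩
  by_cases hall : ∀ o ∈ O, IsScal ((o : GL (Fin 3) F) : Matrix (Fin 3) (Fin 3) F)
  · obtain ⟨a, ha⟩ := hall _ (hOdef ▸ Subgroup.mem_map_of_mem M.subtype (hO ⟨c, hC c hc1 hc2⟩))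
    simp only [Subgroup.coe_subtype, Subgroup.coe_mul, InvMemClass.coe_inv] at ha
    have e : cj c ((z : M) : GL (Fin 3) F) = a • (((z : M) : GL (Fin 3) F) : Matrix (Fin 3) (Fin 3) F) := by
      have := congrArg (fun B => B * (((z : M) : GL (Fin 3) F) : Matrix (Fin 3) (Fin 3) F)) ha
      simpa [cj, mul_assoc] using this
    have hdet : ((((z : M) : GL (Fin 3) F)) : Matrix (Fin 3) (Fin 3) F).det = 1 := by
      rw [← Matrix.GeneralLinearGroup.val_det_apply, MonoidHom.mem_ker.1 (hMS z.2), Units.val_one]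
    have ha3 : a ^ 3 = 1 := by
      have := congrArg Matrix.det e
      rw [cj, Matrix.det_mul, Matrix.det_mul, mul_right_comm, ← Matrix.det_mul, ← Units.val_mul, mul_inv_cancel,
        Units.val_one, Matrix.det_one, one_mul, Matrix.det_smul, hdet, Fintype.card_fin, mul_one] at this
      exact this.symm
    have ha2 : a * a = 1 := by
      have h1 : cj c ((((z : M) : GL (Fin 3) F) : Matrix (Fin 3) (Fin 3) F) * ((z : M) : GL (Fin 3) F)) = (a * a) • 1 := by
        rw [cj_mul, e, smul_mul_smul_comm, ← Units.val_mul, hsq, Units.val_one]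
      rw [← Units.val_mul, hsq, Units.val_one, show cj c (1 : Matrix (Fin 3) (Fin 3) F) = 1 by simp [cj]] at h1
      simpa using (congrFun (congrFun h1 0) 0).symm
    have ha1 : a = 1 := by linear_combination ha3 - a * ha2
    rw [ha1, one_smul, cj_eq_iff] at e
    have hcz : ∀ y, act c (act ((z : M) : GL (Fin 3) F) y) = act ((z : M) : GL (Fin 3) F) (act c y) := fun y => by
      rw [← act_mul, ← act_mul, show c * ((z : M) : GL (Fin 3) F) = ((z : M) : GL (Fin 3) F) * c from Units.ext e]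
    have h1 := hcz v
    rw [Hom.fix hv.1 ev, ev (act c v)] at h1
    have h5 : (2 : F) • act c v = (2 : F) • (φ (act c v) • v) := by linear_combination (norm := module) h1
    exact hc' (isScal_of_fix hK hc2 hv.ne.1 (smul_right_injective _ h2 h5))
  push Not at hall
  refine hnorm (le_normalizer_of_solvable hK hMS hC (hOdef ▸ Subgroup.map_subtype_le _) (fun m hm o ho => ?_) ?_ hall)
  · rw [hOdef] at ho ⊢
    obtain ⟨o, ho, rfl⟩ := ho
    have hN : (oddCore M).Normal := inferInstance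
    refine Subgroup.mem_map.2 ⟨(⟨m, hm⟩ : M) * o * (⟨m, hm⟩ : M)⁻¹, hN.conj_mem o ho ⟨m, hm⟩, ?_⟩
    simp only [map_mul, map_inv, Subgroup.subtype_apply]
  · refine hFT O ?_
    rw [hOdef, ← Nat.card_congr (Subgroup.equivMapOfInjective _ _ M.subtype_injective).toEquiv]
    exact PCore.odd_card_oddCore

end Cfsg.Agent.MaxCl.SLThree.Cubic
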