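/-
A group with a transvection containing the norm-one elements of a cubic field, other than over four scalars, has all
centres and all axes.
-/
import Cfsg.Agent.Lib.MaxCl.SLThree.Cubic.Closure

set_option autoImplicit false
set_option linter.unusedSectionVars false

namespace Cfsg.Agent.MaxCl.SLThree.Cubic

open scoped MatrixGroups Matrix LinearAlgebra.Projectivization
open Module (finrank)

variable {F : Type*} [Field F] [Fintype F] {M : Subgroup (GL (Fin 3) F)}
variable {K : Subalgebra F (Matrix (Fin 3) (Fin 3) F)} (hK : Cfsg.Geo.IsFieldSubalgebra 3 K)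
include hK

theorem sum_num_mul_left [Fintype (Cls F)] (t : Cls F) : ∑ s, num hK (t * s) = Fintype.card F + 1 := by
  rw [← sum_num hK]
  exact Equiv.sum_comp (Equiv.mulLeft t) (num hK)

theorem sum_num_mul_right [Fintype (Cls F)] (s : Cls F) : ∑ t, num hK (t * s) = Fintype.card F + 1 := by
  rw [← sum_num hK]
  exact Equiv.sum_comp (Equiv.mulRight s) (num hK)

theorem exists_other {s : Cls F} (h3 : Nat.card (Cls F) = 3) : ∃ t, t ≠ s := by
  haveI : Nontrivial (Cls F) := Finite.one_lt_card_iff_nontrivial.1 (by omega)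
  exact exists_ne s

/-- A class with one point on a line occurs only for few scalars. -/
theorem card_le_seven (h3 : Nat.card (Cls F) = 3) {s : Cls F} (h : num hK s = 1) : Fintype.card F ≤ 7 := by
  obtain ⟨t, ht⟩ := exists_other hK (s := s) h3
  obtain ⟨u, e1, e2⟩ := three_classes hK h3 ht.symm
  rw [h] at e1 e2
  zify at e1 e2 ⊢
  nlinarith [sq_nonneg ((num hK t : ℤ) - num hK u)]

/-- Two points of a class on a line. -/
theorem exists_two_points {φ : (Fin 3 → F) →ₗ[F] F} (hφ : φ ≠ 0) (s : Cls F)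
    (h : 2 ≤ num hK (clK hK (kL_ne hK hφ) * s)) :
    ∃ v w : Fin 3 → F, ∃ (hv : v ≠ 0) (hw : w ≠ 0), φ v = 0 ∧ φ w = 0 ∧ w ∉ F ∙ v ∧
      cls hK (Projectivization.mk F v hv) = s ∧ cls hK (Projectivization.mk F w hw) = s := by
  rw [← card_line hK hφ s] at h
  haveI : Nontrivial {P : ℙ F (Fin 3 → F) // φ P.rep = 0 ∧ cls hK P = s} :=
    Finite.one_lt_card_iff_nontrivial.1 (by omega)
  obtain ⟨⟨P, hP, hPs⟩, ⟨Q, hQ, hQs⟩, hne⟩ :=
    exists_pair_ne {P : ℙ F (Fin 3 → F) // φ P.rep = 0 ∧ cls hK P = s}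
  refine ⟨P.rep, Q.rep, P.rep_nonzero, Q.rep_nonzero, hP, hQ, fun e => hne (Subtype.ext ?_),
    by rw [Projectivization.mk_rep, hPs], by rw [Projectivization.mk_rep, hQs]⟩
  obtain ⟨a, ha⟩ := Submodule.mem_span_singleton.1 e
  show P = Q
  rw [← Projectivization.mk_rep P, ← Projectivization.mk_rep Q, eq_comm, Projectivization.mk_eq_mk_iff']
  exact ⟨a, ha⟩

/-- Two lines of a class through a point. -/
theorem exists_two_lines {v : Fin 3 → F} (hv : v ≠ 0) (t : Cls F)
    (h : 2 ≤ num hK (t * cls hK (Projectivization.mk F v hv))) :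
    ∃ φ χ : (Fin 3 → F) →ₗ[F] F, ∃ (hφ : φ ≠ 0) (hχ : χ ≠ 0), φ v = 0 ∧ χ v = 0 ∧ χ ∉ F ∙ φ ∧
      clK hK (kL_ne hK hφ) = t ∧ clK hK (kL_ne hK hχ) = t := by
  rw [← card_pencil hK hv t] at h
  haveI : Finite ((Fin 3 → F) →ₗ[F] F) :=
    Finite.of_injective (fun φ : (Fin 3 → F) →ₗ[F] F => (φ : (Fin 3 → F) → F)) DFunLike.coe_injective
  haveI : Nontrivial {L : ℙ F ((Fin 3 → F) →ₗ[F] F) // L.rep v = 0 ∧ clsL hK L = t} :=
    Finite.one_lt_card_iff_nontrivial.1 (by omega)
  obtain ⟨⟨P, hP, hPs⟩, ⟨Q, hQ, hQs⟩, hne⟩ :=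
    exists_pair_ne {L : ℙ F ((Fin 3 → F) →ₗ[F] F) // L.rep v = 0 ∧ clsL hK L = t}
  refine ⟨P.rep, Q.rep, P.rep_nonzero, Q.rep_nonzero, hP, hQ, fun e => hne (Subtype.ext ?_), hPs, hQs⟩
  obtain ⟨a, ha⟩ := Submodule.mem_span_singleton.1 e
  show P = Q
  rw [← Projectivization.mk_rep P, ← Projectivization.mk_rep Q, eq_comm, Projectivization.mk_eq_mk_iff']
  exact ⟨a, ha⟩

variable (hC : ∀ g ∈ Cfsg.Geo.specialLinear (Fin 3) F, (g : Matrix (Fin 3) (Fin 3) F) ∈ K → g ∈ M)
include hC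

/-- The transvections of the axes through a centre, as functionals. -/
theorem exists_axis_family {v : Fin 3 → F} (hv : Centre M v) :
    ∃ f : {L // L ∈ axesAt M v} → ((Fin 3 → F) →ₗ[F] F),
      (∀ L, f L v = 0 ∧ tv (f L) v ∈ M ∧ f L ≠ 0 ∧ Axis M (f L)) ∧ ∀ L L', L ≠ L' → f L ∉ F ∙ f L' := by
  have h : ∀ L : {L // L ∈ axesAt M v}, ∃ c : F, c ≠ 0 ∧ tv (c • L.1.rep) v ∈ M := fun L => by
    obtain ⟨hL0, hL⟩ := mem_axesAt.1 L.2
    obtain ⟨-, c, hc, hm⟩ := flag_of_centre_axis hv hL hL0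
    exact ⟨c, hc, by rwa [tv_smul_swap _ _ _ hL0]⟩
  choose c hc hm using h
  refine ⟨fun L => c L • L.1.rep, fun L => ⟨by simp [(mem_axesAt.1 L.2).1], hm L, smul_ne_zero (hc L) L.1.rep_nonzero,
    axis_smul (hc L) (mem_axesAt.1 L.2).2⟩, fun L L' hne e => hne (Subtype.ext ?_)⟩
  obtain ⟨a, ha⟩ := Submodule.mem_span_singleton.1 e
  rw [← Projectivization.mk_rep L.1, ← Projectivization.mk_rep L'.1, Projectivization.mk_eq_mk_iff']
  exact ⟨(c L)⁻¹ * (a * c L'), by rw [← smul_smul, ← smul_smul, ha, inv_smul_smul₀ (hc L)]⟩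

/-- The transvections of the centres on an axis, as vectors. -/
theorem exists_centre_family {φ : (Fin 3 → F) →ₗ[F] F} (hφ : Axis M φ) :
    ∃ f : {P // P ∈ centresOn M φ} → (Fin 3 → F),
      (∀ P, φ (f P) = 0 ∧ tv φ (f P) ∈ M) ∧ ∀ P P', P ≠ P' → f P ∉ F ∙ f P' := by
  have h : ∀ P : {P // P ∈ centresOn M φ}, ∃ c : F, c ≠ 0 ∧ tv φ (c • P.1.rep) ∈ M := fun P => by
    obtain ⟨hP0, hP⟩ := mem_centresOn.1 P.2
    exact (flag_of_centre_axis hP hφ hP0).2
  choose c hc hm using h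
  refine ⟨fun P => c P • P.1.rep, fun P => ⟨by simp [(mem_centresOn.1 P.2).1], hm P⟩,
    fun P P' hne e => hne (Subtype.ext ?_)⟩
  obtain ⟨a, ha⟩ := Submodule.mem_span_singleton.1 e
  rw [← Projectivization.mk_rep P.1, ← Projectivization.mk_rep P'.1, Projectivization.mk_eq_mk_iff']
  exact ⟨(c P)⁻¹ * (a * c P'), by rw [← smul_smul, ← smul_smul, ha, inv_smul_smul₀ (hc P)]⟩

/-- The centres on a line count one modulo the characteristic. -/
theorem sum_centre_modEq (h4 : Fintype.card F ≠ 4) (h3 : Nat.card (Cls F) = 3) {p : ℕ} [CharP F p] (hp : p.Prime)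
    (hS : (centreClasses hK M).Nonempty) (t : Cls F) :
    ∑ s ∈ centreClasses hK M, num hK (t * s) ≡ 1 [MOD p] := by
  classical
  haveI : Fintype (Cls F) := Fintype.ofFinite _
  have hgen : ∀ {ψ : (Fin 3 → F) →ₗ[F] F}, ψ ≠ 0 → ¬ Axis M ψ → ∀ v, Centre M v → ψ v = 0 →
      (centresOn M ψ).card ≡ 1 [MOD p] := by
    intro ψ hψ hax v hv hψv
    obtain ⟨-, φ, hφ, hf⟩ := id hv
    refine centres_modEq hp hv hf hφ hψv fun e => hax ?_
    obtain ⟨a, rfl⟩ := Submodule.mem_span_singleton.1 e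
    exact axis_smul (by rintro rfl; simp at hψ) ⟨hφ, v, hv.1, hf⟩
  have hpoint : ∀ t' s, ∃ (ψ : (Fin 3 → F) →ₗ[F] F) (hψ : ψ ≠ 0) (v : Fin 3 → F) (hv : v ≠ 0),
      clK hK (kL_ne hK hψ) = t' ∧ cls hK (Projectivization.mk F v hv) = s ∧ ψ v = 0 := by
    intro t' s
    obtain ⟨ψ, hψ, rfl⟩ := exists_line hK t'
    have hpos := num_pos hK (clK hK (kL_ne hK hψ) * s)
    rw [← card_line hK hψ s] at hpos
    obtain ⟨⟨P, hP, hPs⟩, -⟩ := Nat.card_pos_iff.1 hpos
    exact ⟨ψ, hψ, P.rep, P.rep_nonzero, rfl, by rw [Projectivization.mk_rep, hPs], hP⟩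
  by_cases hok : t ∉ axisClasses hK M ∨
      ∃ s ∈ centreClasses hK M, 2 ≤ ∑ t' ∈ axisClasses hK M, num hK (t' * s)
  · by_cases htT : t ∈ axisClasses hK M
    · obtain ⟨s, hs, hs2⟩ := hok.resolve_left (not_not_intro htT)
      obtain ⟨ψ, hψ, v, hv, hψt, hvs, hψv⟩ := hpoint t s
      have hvc : Centre M v := (centre_iff hK hC hv).2 (hvs ▸ hs)
      rw [← hψt, ← card_centresOn hK hC hψ]
      have hcard : 1 < (axesAt M v).card := by rw [card_axesAt hK hC hv, hvs]; omega
      obtain ⟨L, hL, hne⟩ := Finset.exists_mem_ne hcard (Projectivization.mk F ψ hψ)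
      rw [mem_axesAt] at hL
      refine centres_modEq hp hvc (flag_of_centre_axis hvc hL.2 hL.1) L.rep_nonzero hψv fun e => hne ?_
      obtain ⟨a, ha⟩ := Submodule.mem_span_singleton.1 e
      rw [← Projectivization.mk_rep L, eq_comm, Projectivization.mk_eq_mk_iff']
      exact ⟨a, ha⟩
    · obtain ⟨s, hs⟩ := hS
      obtain ⟨ψ, hψ, v, hv, hψt, hvs, hψv⟩ := hpoint t s
      rw [← hψt, ← card_centresOn hK hC hψ]
      exact hgen hψ (fun h => htT (hψt ▸ (axis_iff hK hC hψ).1 h)) v ((centre_iff hK hC hv).2 (hvs ▸ hs)) hψv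
  exfalso
  push Not at hok
  obtain ⟨htT, hsmall⟩ := hok
  have hT : ∀ t' ∈ axisClasses hK M, t' = t := by
    intro t' ht'
    by_contra hne
    obtain ⟨s, hs⟩ := hS
    have h1 := Finset.sum_le_sum_of_subset (f := fun u => num hK (u * s))
      (show {t', t} ⊆ axisClasses hK M by intro u hu; simp at hu; rcases hu with rfl | rfl <;> assumption)
    rw [Finset.sum_pair hne] at h1
    have := hsmall s hs
    have := num_pos hK (t' * s)
    have := num_pos hK (t * s)
    omega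
  have hone : ∀ s ∈ centreClasses hK M, num hK (t * s) = 1 := fun s hs => by
    have h1 := Finset.single_le_sum (f := fun u => num hK (u * s)) (fun _ _ => Nat.zero_le _) htT
    have := hsmall s hs
    have := num_pos hK (t * s)
    omega
  obtain ⟨s, hs⟩ := hS
  have hS1 : centreClasses hK M = {s} := Finset.eq_singleton_iff_unique_mem.2
    ⟨hs, fun u hu => mul_left_cancel (num_one_unique hK h4 (hone u hu) (hone s hs))⟩
  have hq7 := card_le_seven hK h3 (hone s hs)
  have hx : ∀ t', t' ≠ t → (num hK (t' * s) : ZMod p) = 1 := by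
    intro t' hne
    obtain ⟨ψ, hψ, v, hv, hψt, hvs, hψv⟩ := hpoint t' s
    have h := hgen hψ (fun h => hne (hT _ (hψt ▸ (axis_iff hK hC hψ).1 h))) v ((centre_iff hK hC hv).2 (hvs ▸ hs)) hψv
    rw [card_centresOn hK hC hψ, hS1, Finset.sum_singleton, hψt, ← ZMod.natCast_eq_natCast_iff] at h
    simpa using h
  have hsum := congrArg (fun n : ℕ => (n : ZMod p)) (sum_num_mul_right hK s)
  haveI : Fact p.Prime := ⟨hp⟩
  have hall : ∀ t', (num hK (t' * s) : ZMod p) = 1 := fun t' => by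
    rcases eq_or_ne t' t with rfl | hne
    · rw [hone s hs, Nat.cast_one]
    · exact hx t' hne
  simp only [Nat.cast_sum, hall, Finset.sum_const, Finset.card_univ, ← Nat.card_eq_fintype_card (α := Cls F), h3,
    nsmul_eq_mul, mul_one, Nat.cast_add, Nat.cast_one, Nat.cast_ofNat] at hsum
  have hqp : (Fintype.card F : ZMod p) = 0 := by
    obtain ⟨n, -, hn⟩ := FiniteField.card F p
    rw [hn]; push_cast; simp
  rw [hqp, zero_add] at hsum
  have hp2 : p = 2 := by
    have h20 : ((2 : ℕ) : ZMod p) = 0 := by push_cast; linear_combination hsum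
    exact ((Nat.prime_dvd_prime_iff_eq hp Nat.prime_two).1 ((ZMod.natCast_eq_zero_iff _ _).1 h20))
  subst hp2
  obtain ⟨n, -, hn⟩ := FiniteField.card F 2
  have hgcd : 3 ∣ Fintype.card F - 1 := by
    rw [card_Cls] at h3; exact h3 ▸ Nat.gcd_dvd_left _ _
  have hq1 : 1 < Fintype.card F := Fintype.one_lt_card
  have h2q : 2 ∣ Fintype.card F := hn ▸ dvd_pow_self 2 (PNat.ne_zero n)
  omega

/-- Dually, the axes through a point. -/
theorem sum_axis_modEq (h4 : Fintype.card F ≠ 4) (h3 : Nat.card (Cls F) = 3) {p : ℕ} [CharP F p] (hp : p.Prime)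
    (hT : (axisClasses hK M).Nonempty) (s : Cls F) :
    ∑ t ∈ axisClasses hK M, num hK (t * s) ≡ 1 [MOD p] := by
  classical
  haveI : Fintype (Cls F) := Fintype.ofFinite _
  have hgen : ∀ {w : Fin 3 → F}, w ≠ 0 → ¬ Centre M w → ∀ φ, Axis M φ → φ w = 0 →
      (axesAt M w).card ≡ 1 [MOD p] := by
    intro w hw hce φ hφ hφw
    obtain ⟨-, v, hv, hf⟩ := id hφ
    refine axes_modEq hp hφ hf hv hφw fun e => hce ?_
    obtain ⟨a, rfl⟩ := Submodule.mem_span_singleton.1 e
    exact centre_smul (by rintro rfl; simp at hw) ⟨hv, φ, hφ.1, hf⟩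
  have hline : ∀ t s', ∃ (φ : (Fin 3 → F) →ₗ[F] F) (hφ : φ ≠ 0) (w : Fin 3 → F) (hw : w ≠ 0),
      clK hK (kL_ne hK hφ) = t ∧ cls hK (Projectivization.mk F w hw) = s' ∧ φ w = 0 := by
    intro t s'
    obtain ⟨φ, hφ, rfl⟩ := exists_line hK t
    have hpos := num_pos hK (clK hK (kL_ne hK hφ) * s')
    rw [← card_line hK hφ s'] at hpos
    obtain ⟨⟨P, hP, hPs⟩, -⟩ := Nat.card_pos_iff.1 hpos
    exact ⟨φ, hφ, P.rep, P.rep_nonzero, rfl, by rw [Projectivization.mk_rep, hPs], hP⟩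
  by_cases hok : s ∉ centreClasses hK M ∨
      ∃ t ∈ axisClasses hK M, 2 ≤ ∑ s' ∈ centreClasses hK M, num hK (t * s')
  · by_cases hsS : s ∈ centreClasses hK M
    · obtain ⟨t, ht, ht2⟩ := hok.resolve_left (not_not_intro hsS)
      obtain ⟨φ, hφ, w, hw, hφt, hws, hφw⟩ := hline t s
      have hφa : Axis M φ := (axis_iff hK hC hφ).2 (hφt ▸ ht)
      rw [← hws, ← card_axesAt hK hC hw]
      have hcard : 1 < (centresOn M φ).card := by rw [card_centresOn hK hC hφ, hφt]; omega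
      obtain ⟨P, hP, hne⟩ := Finset.exists_mem_ne hcard (Projectivization.mk F w hw)
      rw [mem_centresOn] at hP
      refine axes_modEq hp hφa (flag_of_centre_axis hP.2 hφa hP.1) P.rep_nonzero hφw fun e => hne ?_
      obtain ⟨a, ha⟩ := Submodule.mem_span_singleton.1 e
      rw [← Projectivization.mk_rep P, eq_comm, Projectivization.mk_eq_mk_iff']
      exact ⟨a, ha⟩
    · obtain ⟨t, ht⟩ := hT
      obtain ⟨φ, hφ, w, hw, hφt, hws, hφw⟩ := hline t s
      rw [← hws, ← card_axesAt hK hC hw]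
      exact hgen hw (fun h => hsS (hws ▸ (centre_iff hK hC hw).1 h)) φ ((axis_iff hK hC hφ).2 (hφt ▸ ht)) hφw
  exfalso
  push Not at hok
  obtain ⟨hsS, hsmall⟩ := hok
  have hS : ∀ s' ∈ centreClasses hK M, s' = s := by
    intro s' hs'
    by_contra hne
    obtain ⟨t, ht⟩ := hT
    have h1 := Finset.sum_le_sum_of_subset (f := fun u => num hK (t * u))
      (show {s', s} ⊆ centreClasses hK M by intro u hu; simp at hu; rcases hu with rfl | rfl <;> assumption)
    rw [Finset.sum_pair hne] at h1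
    have := hsmall t ht
    have := num_pos hK (t * s')
    have := num_pos hK (t * s)
    omega
  have hone : ∀ t ∈ axisClasses hK M, num hK (t * s) = 1 := fun t ht => by
    have h1 := Finset.single_le_sum (f := fun u => num hK (t * u)) (fun _ _ => Nat.zero_le _) hsS
    have := hsmall t ht
    have := num_pos hK (t * s)
    omega
  obtain ⟨t, ht⟩ := hT
  have hT1 : axisClasses hK M = {t} := Finset.eq_singleton_iff_unique_mem.2
    ⟨ht, fun u hu => mul_right_cancel (num_one_unique hK h4 (hone u hu) (hone t ht))⟩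
  have hq7 := card_le_seven hK h3 (hone t ht)
  have hsum := congrArg (fun n : ℕ => (n : ZMod p)) (sum_num_mul_left hK t)
  haveI : Fact p.Prime := ⟨hp⟩
  have hall : ∀ s', (num hK (t * s') : ZMod p) = 1 := fun s' => by
    rcases eq_or_ne s' s with rfl | hne
    · rw [hone t ht, Nat.cast_one]
    · obtain ⟨φ, hφ, w, hw, hφt, hws, hφw⟩ := hline t s'
      have h := hgen hw (fun h => hne (hS _ (hws ▸ (centre_iff hK hC hw).1 h))) φ
        ((axis_iff hK hC hφ).2 (hφt ▸ ht)) hφw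
      rw [card_axesAt hK hC hw, hT1, Finset.sum_singleton, hws, ← ZMod.natCast_eq_natCast_iff] at h
      simpa using h
  simp only [Nat.cast_sum, hall, Finset.sum_const, Finset.card_univ, ← Nat.card_eq_fintype_card (α := Cls F), h3,
    nsmul_eq_mul, mul_one, Nat.cast_add, Nat.cast_one, Nat.cast_ofNat] at hsum
  have hqp : (Fintype.card F : ZMod p) = 0 := by
    obtain ⟨n, -, hn⟩ := FiniteField.card F p
    rw [hn]; push_cast; simp
  rw [hqp, zero_add] at hsum
  have hp2 : p = 2 := by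
    have h20 : ((2 : ℕ) : ZMod p) = 0 := by push_cast; linear_combination hsum
    exact ((Nat.prime_dvd_prime_iff_eq hp Nat.prime_two).1 ((ZMod.natCast_eq_zero_iff _ _).1 h20))
  subst hp2
  obtain ⟨n, -, hn⟩ := FiniteField.card F 2
  have hgcd : 3 ∣ Fintype.card F - 1 := by
    rw [card_Cls] at h3; exact h3 ▸ Nat.gcd_dvd_left _ _
  have hq1 : 1 < Fintype.card F := Fintype.one_lt_card
  have h2q : 2 ∣ Fintype.card F := hn ▸ dvd_pow_self 2 (PNat.ne_zero n)
  omega

omit hK hC in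
theorem classes_cases {p : ℕ} (hp : p.Prime) {q c : ℕ} (hq : (q : ZMod p) = 0) (hc : c ≤ 3) (hc0 : 1 ≤ c)
    (h : ((c * (q + 1) : ℕ) : ZMod p) = 3) : c = 3 ∨ p = 2 ∧ c = 1 := by
  push_cast at h
  rw [hq, zero_add, mul_one] at h
  haveI : Fact p.Prime := ⟨hp⟩
  interval_cases c
  · right
    have h20 : ((2 : ℕ) : ZMod p) = 0 := by push_cast at h ⊢; linear_combination -h
    exact ⟨(Nat.prime_dvd_prime_iff_eq hp Nat.prime_two).1 ((ZMod.natCast_eq_zero_iff _ _).1 h20), rfl⟩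
  · exfalso
    have h10 : (1 : ZMod p) = 0 := by push_cast at h; linear_combination -h
    exact one_ne_zero h10
  · exact Or.inl rfl

/-- One class of centres and one class of axes is impossible. -/
theorem false_of_one_one [CharP F 2] (h16 : 16 ≤ Fintype.card F) (hdvd : 4 ∣ Fintype.card F)
    (h3 : Nat.card (Cls F) = 3) {s t : Cls F} (hs : centreClasses hK M = {s}) (ht : axisClasses hK M = {t}) :
    False := by
  classical
  haveI : Fintype (Cls F) := Fintype.ofFinite _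
  have hnum : ∀ u, 2 ≤ num hK u := fun u => by
    by_contra h
    have := num_pos hK u
    have := card_le_seven hK h3 (s := u) (by omega)
    omega
  obtain ⟨v, hv, hvs⟩ := exists_point hK s
  have hvc : Centre M v := (centre_iff hK hC hv).2 (by simp [hs, hvs])
  obtain ⟨f, hf, hfne⟩ := exists_axis_family hK hC hvc
  have ha : (axesAt M v).card = num hK (t * s) := by rw [card_axesAt hK hC hv, ht, Finset.sum_singleton, hvs]
  have hcen : ∀ {ψ : (Fin 3 → F) →ₗ[F] F} (hψ : ψ ≠ 0), (centresOn M ψ).card = num hK (clK hK (kL_ne hK hψ) * s) :=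
    fun hψ => by rw [card_centresOn hK hC hψ, hs, Finset.sum_singleton]
  have h2a := hnum (t * s)
  obtain ⟨L, hL, L', hL', hne⟩ := Finset.one_lt_card.1 (show 1 < (axesAt M v).card by omega)
  have hother : ∀ t', t' ≠ t → num hK (t' * s) ≡ 1 [MOD 4] := by
    intro t' hne'
    obtain ⟨ψ, -, hψ, -, hψv, -, -, hψt, -⟩ := exists_two_lines hK hv t' (hvs.symm ▸ hnum _)
    have hnax : ¬ Axis M ψ := fun h => hne' (by
      have := (axis_iff hK hC hψ).1 h
      rw [ht, Finset.mem_singleton, hψt] at this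
      exact this)
    have hout : ∀ d : (Fin 3 → F) →ₗ[F] F, d v = 0 → tv d v ∈ M → d ≠ 0 → d ∉ F ∙ ψ := by
      intro d hd hm hd0 e
      obtain ⟨a, rfl⟩ := Submodule.mem_span_singleton.1 e
      have ha0 : a ≠ 0 := by rintro rfl; simp at hd0
      exact hnax ⟨hψ, v, hv, hψv, a, ha0, by rwa [← tv_smul_swap _ _ _ hψv]⟩
    have h1 := hf ⟨L, hL⟩
    have h2 := hf ⟨L', hL'⟩
    have hsum0 : f ⟨L, hL⟩ + f ⟨L', hL'⟩ ≠ 0 := fun e => hfne ⟨L, hL⟩ ⟨L', hL'⟩ (by simpa using hne) (by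
      rw [add_eq_zero_iff_eq_neg.1 e]
      exact Submodule.neg_mem _ (Submodule.mem_span_singleton_self _))
    have := centres_modEq_four hvc hψ hψv h1.1 h2.1 h1.2.1 h2.2.1 (hout _ h1.1 h1.2.1 h1.2.2.1)
      (hout _ h2.1 h2.2.1 h2.2.2.1) (hout _ (by simp [h1.1, h2.1])
        (by rw [← tv_add _ _ v h1.1 h2.1]; exact M.mul_mem h1.2.1 h2.2.1) hsum0)
    rwa [hcen hψ, hψt] at this
  obtain ⟨t₁, ht₁⟩ := exists_other hK (s := t) h3
  have hst : t * s ≠ t₁ * s := fun e => ht₁ (mul_right_cancel e).symm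
  obtain ⟨u, e1, e2⟩ := three_classes hK h3 hst
  have hx := hother t₁ ht₁
  have hrest : num hK u % 4 = 1 := by
    obtain ⟨t₂, ht₂⟩ : ∃ t₂, t₂ ∉ ({t, t₁} : Finset (Cls F)) := by
      by_contra h
      push Not at h
      have := Finset.card_le_card (fun u (_ : u ∈ Finset.univ) => h u)
      rw [Finset.card_univ, ← Nat.card_eq_fintype_card, h3, Finset.card_pair ht₁.symm] at this
      omega
    simp only [Finset.mem_insert, Finset.mem_singleton, not_or] at ht₂
    have huniv : ({t, t₁, t₂} : Finset (Cls F)) = Finset.univ := Finset.eq_univ_of_card _ (by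
      rw [Finset.card_insert_of_notMem (by simp [ht₁.symm, Ne.symm ht₂.1]), Finset.card_pair (Ne.symm ht₂.2),
        ← Nat.card_eq_fintype_card, h3])
    have h := sum_num_mul_right hK s
    rw [← huniv, Finset.sum_insert (by simp [ht₁.symm, Ne.symm ht₂.1]), Finset.sum_pair (Ne.symm ht₂.2)] at h
    have hy : num hK (t₂ * s) % 4 = 1 := hother t₂ ht₂.1
    omega
  have hamod : num hK (t * s) % 4 = 3 := by
    have hx' : num hK (t₁ * s) % 4 = 1 := hx
    omega
  have ha4 : ¬ 4 ≤ num hK (t * s) := by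
    intro h4
    have hcard : 4 ≤ Fintype.card {L // L ∈ axesAt M v} := by rw [Fintype.card_coe, ha]; exact h4
    have hψψ' : f ⟨L', hL'⟩ ∉ F ∙ f ⟨L, hL⟩ := hfne _ _ (by simpa using (Ne.symm hne))
    have key : ∀ k i j, f i ∉ F ∙ f k → f j ∉ F ∙ f k → f i + f j ∉ F ∙ f k → False := by
      intro k i j hi hj hij
      have := centres_modEq_four hvc (hf k).2.2.1 (hf k).1 (hf i).1 (hf j).1 (hf i).2.1 (hf j).2.1 hi hj hij
      have hk := (axis_iff hK hC (hf k).2.2.1).1 (hf k).2.2.2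
      rw [ht, Finset.mem_singleton] at hk
      rw [hcen (hf k).2.2.1, hk] at this
      have h1 : num hK (t * s) % 4 = 1 := this
      omega
    rcases exists_pair_avoiding hcard hfne hψψ' with ⟨i, j, hi, hj, hij⟩ | ⟨i, j, hi, hj, hij⟩
    · exact key _ i j hi hj hij
    · exact key _ i j hi hj hij
  have hx' : num hK (t₁ * s) % 4 = 1 := hx
  have ha3 : num hK (t * s) = 3 := by omega
  rw [ha3] at e1 e2
  have hle : Fintype.card F ≤ 16 := by zify at e1 e2 ⊢; nlinarith [sq_nonneg ((num hK (t₁ * s) : ℤ) - num hK u)]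
  have h16' : Fintype.card F = 16 := le_antisymm hle h16
  rw [h16'] at e1 e2
  have hu' : num hK u = 14 - num hK (t₁ * s) := by omega
  rw [hu'] at e2
  have : num hK (t₁ * s) ≤ 14 := by omega
  interval_cases (num hK (t₁ * s)) <;> omega

/-- **All points are centres and all lines are axes.** -/
theorem all_centres_axes (h4 : Fintype.card F ≠ 4) (hex : ∃ v, Centre M v) :
    (∀ v : Fin 3 → F, v ≠ 0 → Centre M v) ∧ ∀ φ : (Fin 3 → F) →ₗ[F] F, φ ≠ 0 → Axis M φ := by
  classical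
  haveI : Fintype (Cls F) := Fintype.ofFinite _
  obtain ⟨v₀, hv₀⟩ := hex
  obtain ⟨-, φ₀, hφ₀, hf₀⟩ := id hv₀
  have hax₀ : Axis M φ₀ := ⟨hφ₀, v₀, hv₀.1, hf₀⟩
  have hS : (centreClasses hK M).Nonempty := ⟨_, (centre_iff hK hC hv₀.1).1 hv₀⟩
  have hT : (axisClasses hK M).Nonempty := ⟨_, (axis_iff hK hC hφ₀).1 hax₀⟩
  suffices h : centreClasses hK M = Finset.univ ∧ axisClasses hK M = Finset.univ from
    ⟨fun v hv => (centre_iff hK hC hv).2 (by rw [h.1]; exact Finset.mem_univ _),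
     fun φ hφ => (axis_iff hK hC hφ).2 (by rw [h.2]; exact Finset.mem_univ _)⟩
  by_cases h3 : Nat.card (Cls F) = 3
  swap
  · haveI : Subsingleton (Cls F) := (Nat.card_eq_one_iff_unique.1 (one_class hK h3)).1
    exact ⟨Finset.eq_univ_of_forall fun s => Subsingleton.elim hS.choose s ▸ hS.choose_spec,
      Finset.eq_univ_of_forall fun s => Subsingleton.elim hT.choose s ▸ hT.choose_spec⟩
  obtain ⟨p, hchar⟩ := CharP.exists F
  haveI := hchar
  obtain ⟨n, hp, hn⟩ := FiniteField.card F p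
  haveI : Fact p.Prime := ⟨hp⟩
  have hqp : (Fintype.card F : ZMod p) = 0 := by rw [hn]; push_cast; simp
  have hcard : Fintype.card (Cls F) = 3 := by rw [← Nat.card_eq_fintype_card, h3]
  have hsum : ∀ f : Cls F → ℕ, (∀ t, f t ≡ 1 [MOD p]) → ((∑ t, f t : ℕ) : ZMod p) = 3 := by
    intro f hf
    rw [Nat.cast_sum, Finset.sum_congr rfl (fun t _ => show (f t : ZMod p) = 1 by
      simpa using (ZMod.natCast_eq_natCast_iff _ _ p).2 (hf t)), Finset.sum_const, Finset.card_univ, hcard]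
    simp
  have hcS : (centreClasses hK M).card = 3 ∨ p = 2 ∧ (centreClasses hK M).card = 1 := by
    refine classes_cases hp hqp (hcard ▸ Finset.card_le_univ _) hS.card_pos ?_
    rw [← hsum _ (sum_centre_modEq hK hC h4 h3 hp hS), Finset.sum_comm]
    simp [sum_num_mul_right hK]
  have hcT : (axisClasses hK M).card = 3 ∨ p = 2 ∧ (axisClasses hK M).card = 1 := by
    refine classes_cases hp hqp (hcard ▸ Finset.card_le_univ _) hT.card_pos ?_
    rw [← hsum _ (sum_axis_modEq hK hC h4 h3 hp hT), Finset.sum_comm]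
    simp [sum_num_mul_left hK]
  have huniv : ∀ A : Finset (Cls F), A.card = 3 → A = Finset.univ := fun A h =>
    Finset.eq_univ_of_card _ (by rw [h, hcard])
  by_cases hp2 : p = 2
  swap
  · exact ⟨huniv _ (hcS.resolve_right fun h => hp2 h.1), huniv _ (hcT.resolve_right fun h => hp2 h.1)⟩
  subst hp2
  have hq16 : 16 ≤ Fintype.card F ∧ 4 ∣ Fintype.card F := by
    have hgcd : 3 ∣ Fintype.card F - 1 := by
      rw [card_Cls] at h3; exact h3 ▸ Nat.gcd_dvd_left _ _
    obtain ⟨m, hm⟩ : ∃ m : ℕ, m = (n : ℕ) := ⟨_, rfl⟩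
    have hpos : 0 < m := hm ▸ n.pos
    rw [hn, ← hm] at hgcd h4 ⊢
    have h4m : 4 ≤ m := by
      by_contra h
      interval_cases m <;> first | omega | (norm_num at hgcd h4)
    exact ⟨le_trans (by norm_num) (Nat.pow_le_pow_right (by norm_num) h4m),
      dvd_trans (by norm_num) (pow_dvd_pow 2 (show 2 ≤ m by omega))⟩
  have hnum : ∀ u, 2 ≤ num hK u := fun u => by
    by_contra h
    have := num_pos hK u
    have := card_le_seven hK h3 (s := u) (by omega)
    omega
  have hcontra : ∀ f : Cls F → ℕ, (∀ u, f u ≡ 1 [MOD 4]) → ∑ u, f u = Fintype.card F + 1 → False := by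
    intro f hf h
    have h' := congrArg (fun n : ℕ => (n : ZMod 4)) h
    simp only [Nat.cast_sum, Nat.cast_add, Nat.cast_one] at h'
    rw [Finset.sum_congr rfl (fun t _ => show (f t : ZMod 4) = 1 by
      simpa using (ZMod.natCast_eq_natCast_iff _ _ 4).2 (hf t)), Finset.sum_const, Finset.card_univ, hcard,
      (ZMod.natCast_eq_zero_iff _ 4).2 hq16.2] at h'
    exact absurd h' (by decide)
  rcases hcT with hT3 | ⟨-, hT1⟩
  · refine ⟨?_, huniv _ hT3⟩
    rcases hcS with hS3 | ⟨-, hS1⟩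
    · exact huniv _ hS3
    exfalso
    obtain ⟨s, hs⟩ := Finset.card_eq_one.1 hS1
    obtain ⟨v, hv, hvs⟩ := exists_point hK s
    have hvc : Centre M v := (centre_iff hK hC hv).2 (by simp [hs, hvs])
    obtain ⟨f, hf, hfne⟩ := exists_axis_family hK hC hvc
    have hlines : 4 ≤ Fintype.card {L // L ∈ axesAt M v} := by
      rw [Fintype.card_coe, card_axesAt hK hC hv, huniv _ hT3, sum_num_mul_right hK]
      omega
    refine hcontra (fun t => num hK (t * s)) (fun t => ?_) (sum_num_mul_right hK s)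
    obtain ⟨ψ, ψ', hψ, hψ', hψv, hψ'v, hne, hψt, hψ't⟩ := exists_two_lines hK hv t (hvs.symm ▸ hnum _)
    have key : ∀ χ : (Fin 3 → F) →ₗ[F] F, ∀ hχ : χ ≠ 0, χ v = 0 → clK hK (kL_ne hK hχ) = t →
        ∀ i j, f i ∉ F ∙ χ → f j ∉ F ∙ χ → f i + f j ∉ F ∙ χ → num hK (t * s) ≡ 1 [MOD 4] := by
      intro χ hχ hχv hχt i j hi hj hij
      have := centres_modEq_four hvc hχ hχv (hf i).1 (hf j).1 (hf i).2.1 (hf j).2.1 hi hj hij
      rwa [card_centresOn hK hC hχ, hs, Finset.sum_singleton, hχt] at this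
    rcases exists_pair_avoiding hlines hfne hne with ⟨i, j, hi, hj, hij⟩ | ⟨i, j, hi, hj, hij⟩
    · exact key ψ hψ hψv hψt i j hi hj hij
    · exact key ψ' hψ' hψ'v hψ't i j hi hj hij
  exfalso
  obtain ⟨t, ht⟩ := Finset.card_eq_one.1 hT1
  rcases hcS with hS3 | ⟨-, hS1⟩
  · obtain ⟨φ, hφ, hφt⟩ := exists_line hK t
    have hφa : Axis M φ := (axis_iff hK hC hφ).2 (by simp [ht, hφt])
    obtain ⟨f, hf, hfne⟩ := exists_centre_family hK hC hφa
    have hpts : 4 ≤ Fintype.card {P // P ∈ centresOn M φ} := by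
      rw [Fintype.card_coe, card_centresOn hK hC hφ, huniv _ hS3, sum_num_mul_left hK]
      omega
    refine hcontra (fun s => num hK (t * s)) (fun s => ?_) (sum_num_mul_left hK t)
    obtain ⟨w, w', hw, hw', hφw, hφw', hne, hws, hw's⟩ := exists_two_points hK hφ s (hnum _)
    have key : ∀ u : Fin 3 → F, ∀ hu : u ≠ 0, φ u = 0 → cls hK (Projectivization.mk F u hu) = s →
        ∀ i j, f i ∉ F ∙ u → f j ∉ F ∙ u → f i + f j ∉ F ∙ u → num hK (t * s) ≡ 1 [MOD 4] := by
      intro u hu hφu hus i j hi hj hij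
      have := axes_modEq_four hφa hu hφu (hf i).1 (hf j).1 (hf i).2 (hf j).2 hi hj hij
      rwa [card_axesAt hK hC hu, ht, Finset.sum_singleton, hus] at this
    rcases exists_pair_avoiding hpts hfne hne with ⟨i, j, hi, hj, hij⟩ | ⟨i, j, hi, hj, hij⟩
    · exact key w hw hφw hws i j hi hj hij
    · exact key w' hw' hφw' hw's i j hi hj hij
  · obtain ⟨s, hs⟩ := Finset.card_eq_one.1 hS1
    exact false_of_one_one hK hC hq16.1 hq16.2 h3 hs ht

end Cfsg.Agent.MaxCl.SLThree.Cubic
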