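/-
The normaliser of a cubic field is maximal in the special linear group of degree three, other than over four scalars.
-/
import Cfsg.Agent.Lib.MaxCl.SLThree.Cubic.Homology
import Cfsg.Agent.Lib.MaxCl.SLThree.Cubic.Numbers
import Cfsg.Agent.Lib.MaxCl.OrthParabolic
import Cfsg.Agent.S0205

set_option autoImplicit false
set_option linter.unusedSectionVars false

namespace Cfsg.Agent.MaxCl.SLThree

open scoped MatrixGroups Matrix
open Module (finrank)

open Cubic in
/-- The normaliser of a cubic field is maximal in `SL₃`, unless there are four scalars. -/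
theorem cubic_maximal {F : Type*} [Field F] [Fintype F] :
    Fintype.card F ≠ 4 → ∀ K : Subalgebra F (Matrix (Fin 3) (Fin 3) F), Cfsg.Geo.IsFieldSubalgebra 3 K →
      Cfsg.Geo.IsMaximalIn (Cfsg.Geo.specialLinear (Fin 3) F)
        (Cfsg.Geo.subalgebraNormalizer K ⊓ Cfsg.Geo.specialLinear (Fin 3) F) := by
  classical
  intro h4 K hK
  refine Orth.isMaximalIn_inf ?_ fun M hM hMS hout => ?_
  · obtain ⟨c, -, hcK, hc, -⟩ := exists_irr hK
    have hns : ¬ IsScal ((c : GL (Fin 3) F) : Matrix (Fin 3) (Fin 3) F) := by simpa using hc 1 (one_dvd _)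
    obtain ⟨v, hv0⟩ : ∃ v : Fin 3 → F, v ≠ 0 := exists_ne 0
    have hcv : act c v ∉ F ∙ v := fun e => by
      obtain ⟨a, ha⟩ := Submodule.mem_span_singleton.1 e
      exact hns (isScal_of_fix hK hcK hv0 ha.symm)
    obtain ⟨φ, hφv, hφc⟩ := exists_dual (F ∙ v) hcv
    have hφv' : φ v = 0 := hφv v (Submodule.mem_span_singleton_self v)
    refine ⟨tv φ v, tv_det hφv', fun hn => ?_⟩
    obtain ⟨k', hk'⟩ := (ExtF.mem_normalizer_iff K _).1 hn ⟨_, hcK⟩
    -- a vector fixed with its image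
    obtain ⟨x, hx, hx0⟩ : ∃ x ∈ LinearMap.ker φ ⊓ LinearMap.ker (φ ∘ₗ act c), x ≠ 0 := by
      refine Submodule.exists_mem_ne_zero_of_ne_bot fun hbot => ?_
      have h1 := Submodule.finrank_sup_add_finrank_inf_eq (LinearMap.ker φ) (LinearMap.ker (φ ∘ₗ act c))
      have hφ0 : φ ≠ 0 := fun e => by simp [e] at hφc
      rw [hbot, finrank_bot, finrank_ker hφ0, finrank_ker (fun e => by
        have := LinearMap.congr_fun e v
        simp [hφc] at this)] at h1
      have h2 := Submodule.finrank_le (LinearMap.ker φ ⊔ LinearMap.ker (φ ∘ₗ act c))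
      rw [Module.finrank_pi, Fintype.card_fin] at h2
      omega
    obtain ⟨hx1, hx2⟩ := hx
    simp only [SetLike.mem_coe, LinearMap.mem_ker, LinearMap.comp_apply] at hx1 hx2
    have h1 := hk' x
    rw [← act_apply, act_tv hφv', act_tv hφv', hx2, hx1, zero_smul, add_zero, add_zero, act_apply] at h1
    have hk : (⟨_, hcK⟩ : K) = k' := mulVec_inj hK hx0 h1
    have h2 := hk' v
    rw [← act_apply, act_tv hφv', act_tv hφv', hφc, hφv', one_smul, zero_smul, add_zero, ← hk, ← act_apply,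
      add_eq_left] at h2
    exact hv0 h2
  obtain ⟨g, hg, hgN⟩ := hout
  have hnorm : ¬ M ≤ Cfsg.Geo.subalgebraNormalizer K := fun h => hgN (h hg)
  have hC : ∀ g ∈ Cfsg.Geo.specialLinear (Fin 3) F, (g : Matrix (Fin 3) (Fin 3) F) ∈ K → g ∈ M :=
    fun g hg hgK => hM ⟨mem_normalizer_of_mem hK hgK, hg⟩
  have hFT : ∀ H : Subgroup (GL (Fin 3) F), Odd (Nat.card H) → Group.IsSolvable H :=
    fun H h => Cfsg.Agent.S0205.result h
  obtain ⟨φ, v, hφ, hv, hφv, hm⟩ : ∃ (φ : (Fin 3 → F) →ₗ[F] F) (v : Fin 3 → F),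
      φ ≠ 0 ∧ v ≠ 0 ∧ φ v = 0 ∧ tv φ v ∈ M := by
    by_cases h2 : (2 : F) = 0
    swap
    · exact exists_tv hK hMS hC h2 hFT hnorm
    haveI : Fact (Nat.Prime 2) := ⟨Nat.prime_two⟩
    by_cases heven : Even (Nat.card M)
    swap
    · obtain ⟨c, hc1, hc2, hc3, -⟩ := exists_irr hK
      exact absurd (le_normalizer_of_solvable hK hMS hC le_rfl
        (fun m hm o ho => M.mul_mem (M.mul_mem hm ho) (M.inv_mem hm)) (hFT M (Nat.not_even_iff_odd.1 heven))
        ⟨c, hC c hc1 hc2, by simpa using hc3 1 (one_dvd _)⟩) hnorm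
    obtain ⟨z, hz⟩ := exists_prime_orderOf_dvd_card' (G := M) 2 (even_iff_two_dvd.1 heven)
    have hz2 : z * z = 1 := by rw [← pow_two, ← hz, pow_orderOf_eq_one]
    have hz1 : z ≠ 1 := fun e => by rw [e, orderOf_one] at hz; omega
    obtain ⟨φ, v, h1, h2', h3, e⟩ := exists_tv_of_sq h2 (g := ((z : M) : GL (Fin 3) F))
      (by simpa using congrArg Subtype.val hz2) (fun e => hz1 (Subtype.ext e))
    exact ⟨φ, v, h1, h2', h3, e ▸ z.2⟩
  have hex : ∃ v, Centre M v := ⟨v, hv, φ, hφ, hφv, 1, one_ne_zero, by rwa [one_smul]⟩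
  obtain ⟨h1, h2⟩ := all_centres_axes hK hC h4 hex
  exact sl_le_of_all_centres h1 h2

end Cfsg.Agent.MaxCl.SLThree
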