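/-
A solvable non-scalar group normalised by a group containing the norm-one elements of a cubic field puts that
group into the normaliser of the field.
-/
import Cfsg.Agent.Lib.MaxCl.SLThree.Cubic.Field

set_option autoImplicit false
set_option linter.unusedSectionVars false

namespace Cfsg.Agent.MaxCl.SLThree.Cubic

open scoped MatrixGroups Matrix
open Module (finrank)

variable {F : Type*} [Field F] [Fintype F]

/-- Conjugation of matrices. -/
def cj (g : GL (Fin 3) F) (A : Matrix (Fin 3) (Fin 3) F) : Matrix (Fin 3) (Fin 3) F :=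
  (g : Matrix (Fin 3) (Fin 3) F) * A * ((g⁻¹ : GL (Fin 3) F) : Matrix (Fin 3) (Fin 3) F)

theorem cj_mul (g : GL (Fin 3) F) (A B : Matrix (Fin 3) (Fin 3) F) : cj g (A * B) = cj g A * cj g B := by
  simp [cj, mul_assoc]

theorem cj_cj (g h : GL (Fin 3) F) (A : Matrix (Fin 3) (Fin 3) F) : cj g (cj h A) = cj (g * h) A := by
  simp [cj, mul_assoc]

theorem cj_one (A : Matrix (Fin 3) (Fin 3) F) : cj 1 A = A := by simp [cj]

theorem cj_smul (g : GL (Fin 3) F) (a : F) (A : Matrix (Fin 3) (Fin 3) F) : cj g (a • A) = a • cj g A := by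
  simp [cj]

theorem cj_sub (g : GL (Fin 3) F) (A B : Matrix (Fin 3) (Fin 3) F) : cj g (A - B) = cj g A - cj g B := by
  simp [cj, mul_sub, sub_mul]

theorem cj_scalar (g : GL (Fin 3) F) (a : F) : cj g (a • 1) = a • 1 := by simp [cj]

theorem cj_eq_iff {g : GL (Fin 3) F} {A : Matrix (Fin 3) (Fin 3) F} :
    cj g A = A ↔ (g : Matrix (Fin 3) (Fin 3) F) * A = A * g := by
  rw [cj]
  exact ⟨fun h => by conv_rhs => rw [← h]; simp [mul_assoc], fun h => by rw [h]; simp [mul_assoc]⟩

theorem cj_mulVec (g : GL (Fin 3) F) (A : Matrix (Fin 3) (Fin 3) F) (v : Fin 3 → F) :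
    cj g A *ᵥ act g v = act g (A *ᵥ v) := by
  rw [act_apply, act_apply, Matrix.mulVec_mulVec, Matrix.mulVec_mulVec, cj, mul_assoc, ← Units.val_mul,
    inv_mul_cancel, Units.val_one, mul_one]

theorem act_pow_succ (c : GL (Fin 3) F) (n : ℕ) (v : Fin 3 → F) : act c (act (c ^ n) v) = act (c ^ (n + 1)) v := by
  rw [← act_mul, ← pow_succ']

/-- A field element with no small power stabilising a subspace. -/
def Irr (c : GL (Fin 3) F) : Prop :=
  ∀ n, n ∣ 72 → ∀ W : Submodule F (Fin 3 → F), W ≠ ⊥ → W ≠ ⊤ → ¬ ∀ w ∈ W, act (c ^ n) w ∈ W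

section eigen

variable {c : GL (Fin 3) F} {x : Matrix (Fin 3) (Fin 3) F} (hirr : Irr c)
  (hcomm : ∀ i j : ℕ, cj (c ^ i) x * cj (c ^ j) x = cj (c ^ j) x * cj (c ^ i) x)
include hirr hcomm

/-- Commuting conjugates with a line as an eigenspace. -/
theorem false_of_eigenline {a : F} {w : Fin 3 → F} (hw : w ≠ 0) (hx : x *ᵥ w = a • w)
    (hu : ∀ y, x *ᵥ y = a • y → y ∈ F ∙ w) : False := by
  obtain ⟨N, hN⟩ : ∃ N : ℕ → Matrix (Fin 3) (Fin 3) F, ∀ i, N i = cj (c ^ i) x - a • 1 := ⟨_, fun i => rfl⟩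
  have hcN : ∀ i j, N i * N j = N j * N i := fun i j => by
    rw [hN, hN]
    simp only [sub_mul, mul_sub, smul_mul_assoc, mul_smul_comm, one_mul, mul_one, hcomm i j]
    module
  have hker : ∀ i y, N i *ᵥ y = 0 → y ∈ F ∙ act (c ^ i) w := by
    intro i y hy
    obtain ⟨z, rfl⟩ : ∃ z, act (c ^ i) z = y := ⟨_, act_act_inv _ _⟩
    rw [hN, Matrix.sub_mulVec, Matrix.smul_mulVec, Matrix.one_mulVec, cj_mulVec, ← map_smul, ← map_sub] at hy
    obtain ⟨r, rfl⟩ := Submodule.mem_span_singleton.1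
      (hu z (sub_eq_zero.1 (act_injective _ (hy.trans (map_zero _).symm))))
    exact Submodule.mem_span_singleton.2 ⟨r, (map_smul _ _ _).symm⟩
  have hkill : ∀ i, N i *ᵥ act (c ^ i) w = 0 := fun i => by
    rw [hN, Matrix.sub_mulVec, Matrix.smul_mulVec, Matrix.one_mulVec, cj_mulVec, hx, map_smul, sub_self]
  have heig : ∀ i j, ∃ r : F, N i *ᵥ act (c ^ j) w = r • act (c ^ j) w := fun i j => by
    obtain ⟨r, hr⟩ := Submodule.mem_span_singleton.1 (hker j (N i *ᵥ act (c ^ j) w) (by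
      rw [Matrix.mulVec_mulVec, ← hcN, ← Matrix.mulVec_mulVec, hkill, Matrix.mulVec_zero]))
    exact ⟨r, hr.symm⟩
  choose r hr using heig
  have hsp : ∀ n, 0 < n → n ≤ 3 → act (c ^ n) w ∉ F ∙ w := by
    intro n hn hn3 hm
    refine hirr n (by interval_cases n <;> norm_num) (F ∙ w) (by simpa using hw) (fun h => ?_) fun u hu' => ?_
    · have := congrArg (fun W : Submodule F (Fin 3 → F) => finrank F W) h
      simp [finrank_span_singleton hw, Module.finrank_pi] at this
    · obtain ⟨s, rfl⟩ := Submodule.mem_span_singleton.1 hu'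
      rw [map_smul]
      exact Submodule.smul_mem _ _ hm
  have hne : ∀ i j, i < 4 → j < 4 → i ≠ j → r i j ≠ 0 := by
    intro i j hi hj hij h0
    have hm := hker i _ ((hr i j).trans (by rw [h0, zero_smul]))
    obtain ⟨s, hs⟩ := Submodule.mem_span_singleton.1 hm
    rcases Nat.lt_or_gt_of_ne hij with hlt | hgt
    · obtain ⟨d, rfl⟩ : ∃ d, j = i + d := ⟨j - i, by omega⟩
      rw [pow_add, act_mul, ← map_smul] at hs
      exact hsp d (by omega) (by omega) (Submodule.mem_span_singleton.2 ⟨s, act_injective _ hs⟩)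
    · obtain ⟨d, rfl⟩ : ∃ d, i = j + d := ⟨i - j, by omega⟩
      rw [pow_add, act_mul, ← map_smul] at hs
      have hs' := act_injective _ hs
      rcases eq_or_ne s 0 with rfl | hs0
      · rw [zero_smul] at hs'
        exact hw hs'.symm
      · exact hsp d (by omega) (by omega) (Submodule.mem_span_singleton.2
          ⟨s⁻¹, by conv_lhs => rw [← hs', inv_smul_smul₀ hs0]⟩)
  have hdep : ¬ LinearIndependent F (fun i : Fin 4 => act (c ^ (i : ℕ)) w) := fun h => by
    have := h.fintype_card_le_finrank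
    simp [Module.finrank_pi] at this
  obtain ⟨g, hsum, k, hk⟩ := Fintype.not_linearIndependent_iff.1 hdep
  simp only [Fin.sum_univ_four, Fin.val_zero, Fin.val_one, Fin.val_two, show ((3 : Fin 4) : ℕ) = 3 from rfl] at hsum
  have key : ∀ p q s : ℕ, N p *ᵥ (N q *ᵥ (N s *ᵥ act (c ^ p) w)) = 0 ∧
      N p *ᵥ (N q *ᵥ (N s *ᵥ act (c ^ q) w)) = 0 ∧ N p *ᵥ (N q *ᵥ (N s *ᵥ act (c ^ s) w)) = 0 := by
    intro p q s
    refine ⟨?_, ?_, ?_⟩
    · rw [hr s p, Matrix.mulVec_smul, hr q p, Matrix.mulVec_smul, Matrix.mulVec_smul, hkill, smul_zero, smul_zero]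
    · rw [hr s q, Matrix.mulVec_smul, hkill, smul_zero, Matrix.mulVec_zero]
    · rw [hkill, Matrix.mulVec_zero, Matrix.mulVec_zero]
  have hz : ∀ l p q s : ℕ, l < 4 → p < 4 → q < 4 → s < 4 → l ≠ p → l ≠ q → l ≠ s → ∀ G A B C : F,
      G • act (c ^ l) w + A • act (c ^ p) w + B • act (c ^ q) w + C • act (c ^ s) w = 0 → G = 0 := by
    intro l p q s hl hp hq hs hlp hlq hls G A B C h
    have h' := congrArg (fun v => N p *ᵥ (N q *ᵥ (N s *ᵥ v))) h
    obtain ⟨k1, k2, k3⟩ := key p q s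
    simp only [Matrix.mulVec_add, Matrix.mulVec_smul, k1, k2, k3, smul_zero, add_zero, Matrix.mulVec_zero] at h'
    rw [hr s l, Matrix.mulVec_smul, hr q l, Matrix.mulVec_smul, Matrix.mulVec_smul, hr p l, smul_smul, smul_smul,
      smul_smul] at h'
    have h0 : act (c ^ l) w ≠ 0 := fun e => hw (act_injective _ (e.trans (map_zero _).symm))
    rcases mul_eq_zero.1 ((smul_eq_zero.1 h').resolve_right h0) with e | e
    · rcases mul_eq_zero.1 e with e | e
      · rcases mul_eq_zero.1 e with e | e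
        · exact e
        · exact absurd e (hne _ _ hs hl hls.symm)
      · exact absurd e (hne _ _ hq hl hlq.symm)
    · exact absurd e (hne _ _ hp hl hlp.symm)
  refine hk ?_
  obtain rfl | rfl | rfl | rfl : k = 0 ∨ k = 1 ∨ k = 2 ∨ k = 3 := by clear hk; revert k; decide
  · exact hz 0 1 2 3 (by norm_num) (by norm_num) (by norm_num) (by norm_num) (by norm_num) (by norm_num)
      (by norm_num) _ (g 1) (g 2) (g 3) hsum
  · exact hz 1 0 2 3 (by norm_num) (by norm_num) (by norm_num) (by norm_num) (by norm_num) (by norm_num)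
      (by norm_num) _ (g 0) (g 2) (g 3) (by rw [← hsum]; module)
  · exact hz 2 0 1 3 (by norm_num) (by norm_num) (by norm_num) (by norm_num) (by norm_num) (by norm_num)
      (by norm_num) _ (g 0) (g 1) (g 3) (by rw [← hsum]; module)
  · exact hz 3 0 1 2 (by norm_num) (by norm_num) (by norm_num) (by norm_num) (by norm_num) (by norm_num)
      (by norm_num) _ (g 0) (g 1) (g 2) (by rw [← hsum]; module)

/-- An element with commuting conjugates and an eigenvalue is a scalar. -/
theorem isScal_of_eigenvector {a : F} {v : Fin 3 → F} (hv : v ≠ 0) (hx : x *ᵥ v = a • v) : IsScal x := by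
  by_contra hns
  obtain ⟨W, hW⟩ : ∃ W : Submodule F (Fin 3 → F), W = LinearMap.ker (Matrix.toLin' (x - a • 1)) := ⟨_, rfl⟩
  have hmem : ∀ y, y ∈ W ↔ x *ᵥ y = a • y := fun y => by
    rw [hW, LinearMap.mem_ker, Matrix.toLin'_apply, Matrix.sub_mulVec, Matrix.smul_mulVec, Matrix.one_mulVec,
      sub_eq_zero]
  have hWtop : W ≠ ⊤ := fun h => hns (isScal_of_eigen fun y => (hmem y).1 (h ▸ trivial))
  have h3 : finrank F W < 3 := by simpa [Module.finrank_pi] using Submodule.finrank_lt hWtop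
  have hone : 2 ≤ finrank F W := by
    by_contra h
    refine false_of_eigenline hirr hcomm hv hx fun y hy => ?_
    rw [Submodule.eq_of_le_of_finrank_le ((Submodule.span_singleton_le_iff_mem v W).2 ((hmem v).2 hx))
      (by rw [finrank_span_singleton hv]; omega)]
    exact (hmem y).2 hy
  have hr := LinearMap.finrank_range_add_finrank_ker (Matrix.toLin' (x - a • 1))
  rw [← hW, Module.finrank_pi, Fintype.card_fin] at hr
  have hr1 : finrank F (LinearMap.range (Matrix.toLin' (x - a • 1))) = 1 := by omega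
  obtain ⟨⟨u, hu⟩, hu0, hspan⟩ := finrank_eq_one_iff'.1 hr1
  have hu0' : u ≠ 0 := fun h => hu0 (Subtype.ext h)
  obtain ⟨y₀, hy₀⟩ := hu
  have hsp : ∀ y, ∃ r : F, (x - a • 1) *ᵥ y = r • u := fun y => by
    obtain ⟨r, hr⟩ := hspan ⟨(x - a • 1) *ᵥ y, ⟨y, Matrix.toLin'_apply _ _⟩⟩
    exact ⟨r, (congrArg Subtype.val hr).symm⟩
  obtain ⟨l, hl⟩ := hsp u
  rcases eq_or_ne l 0 with rfl | hl0
  swap
  · -- a second eigenvalue with a line
    have hxu : x *ᵥ u = (a + l) • u := by
      rw [add_smul, ← hl, Matrix.sub_mulVec, Matrix.smul_mulVec, Matrix.one_mulVec]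
      abel
    refine false_of_eigenline hirr hcomm hu0' hxu fun y hy => ?_
    obtain ⟨r, hr⟩ := hsp y
    rw [Matrix.sub_mulVec, Matrix.smul_mulVec, Matrix.one_mulVec, hy, add_smul, add_sub_cancel_left] at hr
    exact Submodule.mem_span_singleton.2 ⟨r / l, by rw [div_eq_mul_inv, mul_comm, ← smul_smul, ← hr,
      inv_smul_smul₀ hl0]⟩
  rw [zero_smul] at hl
  obtain ⟨N, hN⟩ : ∃ N : ℕ → Matrix (Fin 3) (Fin 3) F, ∀ i, N i = cj (c ^ i) x - a • 1 := ⟨_, fun i => rfl⟩
  have hN0 : N 0 = x - a • 1 := by rw [hN, pow_zero, cj_one]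
  have hNi : ∀ i z, N i *ᵥ act (c ^ i) z = act (c ^ i) ((x - a • 1) *ᵥ z) := fun i z => by
    rw [hN, ← cj_mulVec, cj_sub, cj_scalar]
  have hcN : ∀ i, N 0 * N i = N i * N 0 := fun i => by
    rw [hN, hN]
    simp only [sub_mul, mul_sub, smul_mul_assoc, mul_smul_comm, one_mul, mul_one, hcomm 0 i]
    module
  have hy₀' : N 0 *ᵥ y₀ = u := by rw [hN0, ← hy₀, Matrix.toLin'_apply]
  -- all conjugate ranges lie in one plane
  have hin : ∀ n, act (c ^ n) u ∈ W := by
    intro n
    obtain ⟨r, hr⟩ := hsp (N n *ᵥ y₀)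
    have hNu : N n *ᵥ u = r • u := by
      rw [← hr, ← hN0, Matrix.mulVec_mulVec, hcN, ← Matrix.mulVec_mulVec, hy₀']
    have hr0 : r = 0 := by
      by_contra hr0
      obtain ⟨z, rfl⟩ : ∃ z, act (c ^ n) z = u := ⟨_, act_act_inv _ _⟩
      obtain ⟨s, hs⟩ := hsp z
      rw [hNi, hs, map_smul] at hNu
      have h1 := congrArg (fun v => N n *ᵥ v) hNu
      simp only [Matrix.mulVec_smul, hNi, hl, hs, map_zero, smul_zero, map_smul] at h1
      exact hu0' ((smul_eq_zero.1 (hNu.symm.trans ((smul_eq_zero.1 h1.symm).resolve_left hr0))).resolve_left hr0)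
    obtain ⟨t, ht⟩ := hsp (act (c ^ n) y₀)
    rw [hmem, ← sub_eq_zero, ← hy₀', hN0, ← hNi,
      show x *ᵥ (N n *ᵥ act (c ^ n) y₀) - a • (N n *ᵥ act (c ^ n) y₀) = N 0 *ᵥ (N n *ᵥ act (c ^ n) y₀) by
        rw [hN0, Matrix.sub_mulVec, Matrix.smul_mulVec, Matrix.one_mulVec],
      Matrix.mulVec_mulVec, hcN, ← Matrix.mulVec_mulVec, hN0, ht, Matrix.mulVec_smul, hNu, hr0, zero_smul, smul_zero]
  refine hirr 1 (one_dvd _) (Submodule.span F (Set.range fun n : ℕ => act (c ^ n) u)) (fun h => ?_) (fun h => ?_) ?_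
  · refine hu0' ?_
    simpa [h, act_one] using (Submodule.subset_span ⟨0, rfl⟩ :
      act (c ^ 0) u ∈ Submodule.span F (Set.range fun n : ℕ => act (c ^ n) u))
  · exact hWtop (top_le_iff.1 (h ▸ Submodule.span_le.2 (by rintro _ ⟨n, rfl⟩; exact hin n)))
  · intro w hw
    rw [pow_one]
    induction hw using Submodule.span_induction with
    | mem w hw => obtain ⟨n, rfl⟩ := hw; exact Submodule.subset_span ⟨n + 1, (act_pow_succ c n u).symm⟩
    | zero => simp
    | add w w' _ _ h h' => rw [map_add]; exact Submodule.add_mem _ h h'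
    | smul s w _ h => rw [map_smul]; exact Submodule.smul_mem _ s h

end eigen

/-- An element with commuting conjugates commutes with a small power of the field element. -/
theorem exists_pow_commute {c : GL (Fin 3) F} {x : Matrix (Fin 3) (Fin 3) F} (hirr : Irr c) (hns : ¬ IsScal x)
    (hcomm : ∀ i j : ℕ, cj (c ^ i) x * cj (c ^ j) x = cj (c ^ j) x * cj (c ^ i) x) :
    ∃ n, n ∣ 72 ∧ cj (c ^ n) x = x := by
  -- no eigenvectors
  have hno : ∀ (a : F) v, v ≠ 0 → x *ᵥ v ≠ a • v := fun a v hv h => hns (isScal_of_eigenvector hirr hcomm hv h)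
  have hinv : ∀ W : Submodule F (Fin 3 → F), W ≠ ⊥ → (∀ w ∈ W, x *ᵥ w ∈ W) → W = ⊤ := by
    intro W h0 hW
    by_contra h1
    have h3 : finrank F W < 3 := by simpa [Module.finrank_pi] using Submodule.finrank_lt h1
    obtain ⟨w, hw, hw0⟩ := Submodule.exists_mem_ne_zero_of_ne_bot h0
    have h2 : finrank F W = 2 := by
      by_contra h2
      have := Submodule.one_le_finrank_iff.2 h0
      have e : F ∙ w = W := Submodule.eq_of_le_of_finrank_le ((Submodule.span_singleton_le_iff_mem w W).2 hw)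
        (by rw [finrank_span_singleton hw0]; omega)
      obtain ⟨a, ha⟩ := Submodule.mem_span_singleton.1 (e.symm ▸ hW w hw)
      exact hno a w hw0 ha.symm
    obtain ⟨v, -, hv⟩ := SetLike.exists_of_lt (lt_top_iff_ne_top.2 h1)
    obtain ⟨φ, hφ, hφv⟩ := exists_dual W hv
    have hφ0 : φ ≠ 0 := fun h => by simp [h] at hφv
    have hker : LinearMap.ker φ = W := (Submodule.eq_of_le_of_finrank_le (fun u hu => hφ u hu)
      (by rw [finrank_ker hφ0, h2])).symm
    obtain ⟨M, hM⟩ : ∃ M, M = Matrix.toLin' (x - φ (x *ᵥ v) • 1) := ⟨_, rfl⟩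
    have hMW : ∀ y, M y ∈ W := fun y => by
      rw [← hker, LinearMap.mem_ker]
      have hy : y - φ y • v ∈ W := by rw [← hker, LinearMap.mem_ker]; simp [hφv]
      have := hφ _ (hW _ hy)
      rw [Matrix.mulVec_sub, Matrix.mulVec_smul, map_sub, map_smul, sub_eq_zero] at this
      rw [hM, Matrix.toLin'_apply, Matrix.sub_mulVec, Matrix.smul_mulVec, Matrix.one_mulVec, map_sub, map_smul,
        this, smul_eq_mul, smul_eq_mul, mul_comm, sub_self]
    have hinj : Function.Injective M := (injective_iff_map_eq_zero M).2 fun u hu => by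
      by_contra hu0
      rw [hM, Matrix.toLin'_apply, Matrix.sub_mulVec, Matrix.smul_mulVec, Matrix.one_mulVec, sub_eq_zero] at hu
      exact hno _ u hu0 hu
    obtain ⟨y, hy⟩ := LinearMap.injective_iff_surjective.1 hinj v
    exact hv (hy ▸ hMW y)
  -- the conjugates live in a domain
  obtain ⟨s, hs⟩ : ∃ s : Set (Matrix (Fin 3) (Fin 3) F), s = Set.range fun i : ℕ => cj (c ^ i) x := ⟨_, rfl⟩
  have hsc : ∀ a ∈ s, ∀ b ∈ s, a * b = b * a := by
    rw [hs]; rintro _ ⟨i, rfl⟩ _ ⟨j, rfl⟩; exact hcomm i j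
  letI : CommRing (Algebra.adjoin F s) := Algebra.adjoinCommRingOfComm F hsc
  have hx : x ∈ Algebra.adjoin F s := Algebra.subset_adjoin (by rw [hs]; exact ⟨0, by simp [cj_one]⟩)
  have hdom : ∀ A B : Algebra.adjoin F s, A * B = 0 → A = 0 ∨ B = 0 := by
    intro A B h
    by_contra hc
    push Not at hc
    obtain ⟨hA, hB⟩ := hc
    have hcx : (A : Matrix (Fin 3) (Fin 3) F) * x = x * A :=
      (congrArg Subtype.val (mul_comm A ⟨x, hx⟩) : _)
    rcases eq_or_ne (LinearMap.ker (Matrix.toLin' (A : Matrix (Fin 3) (Fin 3) F))) ⊥ with h0 | h0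
    · refine hB (Subtype.ext (Matrix.toLin'.injective (LinearMap.ext fun v => ?_)))
      have h1 : Matrix.toLin' (A : Matrix (Fin 3) (Fin 3) F) (Matrix.toLin' (B : Matrix (Fin 3) (Fin 3) F) v) = 0 := by
        rw [Matrix.toLin'_apply, Matrix.toLin'_apply, Matrix.mulVec_mulVec, ← Subalgebra.coe_mul, h]
        simp
      rw [← LinearMap.mem_ker, h0, Submodule.mem_bot] at h1
      simpa using h1
    · have htop := hinv _ h0 fun w hw => by
        rw [LinearMap.mem_ker, Matrix.toLin'_apply] at hw ⊢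
        rw [Matrix.mulVec_mulVec, hcx, ← Matrix.mulVec_mulVec, hw, Matrix.mulVec_zero]
      refine hA (Subtype.ext (Matrix.toLin'.injective (LinearMap.ext fun v => ?_)))
      have : v ∈ LinearMap.ker (Matrix.toLin' (A : Matrix (Fin 3) (Fin 3) F)) := htop ▸ trivial
      simpa using LinearMap.mem_ker.1 this
  haveI : Nontrivial (Algebra.adjoin F s) :=
    ⟨⟨0, 1, fun h => zero_ne_one (α := Matrix (Fin 3) (Fin 3) F) (congrArg Subtype.val h)⟩⟩
  haveI : NoZeroDivisors (Algebra.adjoin F s) := ⟨fun {A B} h => hdom A B h⟩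
  haveI : IsDomain (Algebra.adjoin F s) := NoZeroDivisors.to_isDomain _
  obtain ⟨y, hy⟩ : ∃ y : ℕ → Algebra.adjoin F s, ∀ i, (y i : Matrix (Fin 3) (Fin 3) F) = cj (c ^ i) x :=
    ⟨fun i => ⟨_, Algebra.subset_adjoin (by rw [hs]; exact ⟨i, rfl⟩)⟩, fun i => rfl⟩
  obtain ⟨P, hP⟩ : ∃ P : Polynomial (Algebra.adjoin F s), P = x.charpoly.map (algebraMap F _) := ⟨_, rfl⟩
  have hPm : P.Monic := hP ▸ (Matrix.charpoly_monic x).map _
  have hroot : ∀ i, y i ∈ P.roots := fun i => by
    rw [Polynomial.mem_roots hPm.ne_zero, Polynomial.IsRoot, hP, Polynomial.eval_map_algebraMap]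
    refine Subtype.ext ?_
    refine (Polynomial.aeval_subalgebra_coe x.charpoly _ (y i)).trans ?_
    rw [hy, cj]
    have := Matrix.aeval_self_charpoly (cj (c ^ i) x)
    rw [cj, show (((c ^ i)⁻¹ : GL (Fin 3) F) : Matrix (Fin 3) (Fin 3) F) = ((c ^ i : GL (Fin 3) F) :
      Matrix (Fin 3) (Fin 3) F)⁻¹ from Matrix.coe_units_inv _, Matrix.charpoly_units_conj] at this
    rw [show (((c ^ i)⁻¹ : GL (Fin 3) F) : Matrix (Fin 3) (Fin 3) F) = ((c ^ i : GL (Fin 3) F) :
      Matrix (Fin 3) (Fin 3) F)⁻¹ from Matrix.coe_units_inv _, this]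
    rfl
  classical
  obtain ⟨i, hi, j, hj, hij, he⟩ := Finset.exists_ne_map_eq_of_card_lt_of_maps_to (s := Finset.range 4)
    (t := P.roots.toFinset) (f := y) (by
      rw [Finset.card_range]
      refine lt_of_le_of_lt (P.roots.toFinset_card_le.trans (Polynomial.card_roots' P)) ?_
      rw [hP, Polynomial.natDegree_map_eq_of_injective (algebraMap F _).injective,
        Matrix.charpoly_natDegree_eq_dim]
      simp)
    (fun i _ => Multiset.mem_toFinset.2 (hroot i))
  rw [Finset.mem_range] at hi hj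
  have e : cj (c ^ i) x = cj (c ^ j) x := by rw [← hy, ← hy, he]
  rcases Nat.lt_or_gt_of_ne hij with h | h
  · obtain ⟨d, rfl⟩ : ∃ d, j = i + d := ⟨j - i, by omega⟩
    refine ⟨d, by have : d ≤ 3 := (by omega); have : 1 ≤ d := (by omega); interval_cases d <;> norm_num, ?_⟩
    have := congrArg (cj (c ^ i)⁻¹) e
    rw [cj_cj, cj_cj, inv_mul_cancel, cj_one, pow_add, inv_mul_cancel_left] at this
    exact this.symm
  · obtain ⟨d, rfl⟩ : ∃ d, i = j + d := ⟨i - j, by omega⟩
    refine ⟨d, by have : d ≤ 3 := (by omega); have : 1 ≤ d := (by omega); interval_cases d <;> norm_num, ?_⟩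
    have := congrArg (cj (c ^ j)⁻¹) e
    rw [cj_cj, cj_cj, inv_mul_cancel, cj_one, pow_add, inv_mul_cancel_left] at this
    exact this

variable {K : Subalgebra F (Matrix (Fin 3) (Fin 3) F)} (hK : Cfsg.Geo.IsFieldSubalgebra 3 K)
include hK

/-- The norm-one group of the field has an element of no small order modulo scalars. -/
theorem exists_irr : ∃ c : GL (Fin 3) F, c ∈ Cfsg.Geo.specialLinear (Fin 3) F ∧
    (c : Matrix (Fin 3) (Fin 3) F) ∈ K ∧ (∀ n, n ∣ 72 → ¬ IsScal ((c ^ n : GL (Fin 3) F) : Matrix (Fin 3) (Fin 3) F)) ∧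
    Irr c := by
  classical
  haveI := isDomain hK
  haveI : Finite K := Finite.of_injective (fun k : K => (k : Matrix (Fin 3) (Fin 3) F)) Subtype.val_injective
  haveI : Fintype K := Fintype.ofFinite K
  letI : CommRing K := { (inferInstance : Ring K) with mul_comm := fun x y => Subtype.ext (hK.comm _ x.2 _ y.2) }
  obtain ⟨g, hg⟩ := IsCyclic.exists_generator (α := Kˣ)
  obtain ⟨v, hv⟩ : ∃ v, v = Fintype.card F ^ 2 + Fintype.card F + 1 := ⟨_, rfl⟩
  obtain ⟨m, hm⟩ : ∃ m, Fintype.card F = m + 1 := ⟨_, (Nat.succ_pred_eq_of_pos Fintype.card_pos).symm⟩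
  have hm0 : 0 < m := by have := Fintype.one_lt_card (α := F); omega
  have ho : orderOf g = v * m := by
    have hb : Function.Bijective fun u : Kˣ => (⟨u, u.ne_zero⟩ : {k : K // k ≠ 0}) := by
      refine ⟨fun a b h => Units.ext (congrArg Subtype.val h), fun ⟨k, hk⟩ => ?_⟩
      obtain ⟨y, hy, hy1⟩ := hK.inv k k.2 fun e => hk (Subtype.ext e)
      exact ⟨⟨k, ⟨y, hy⟩, Subtype.ext hy1, Subtype.ext ((hK.comm y hy k k.2).trans hy1)⟩, rfl⟩
    rw [orderOf_eq_card_of_forall_mem_zpowers hg, Nat.card_eq_fintype_card, Fintype.card_of_bijective hb,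
      Fintype.card_subtype_compl, Fintype.card_subtype_eq, Module.card_eq_pow_finrank (K := F) (V := K),
      hK.finrank_eq, hv, hm, show (m + 1) ^ 3 = ((m + 1) ^ 2 + (m + 1) + 1) * m + 1 by ring, Nat.add_sub_cancel]
  have hk0 : ((g ^ m : Kˣ) : K) ≠ 0 := Units.ne_zero _
  have hdet : ((((g ^ m : Kˣ) : K)) : Matrix (Fin 3) (Fin 3) F).det = 1 := by
    rw [Units.val_pow_eq_pow_val, SubmonoidClass.coe_pow, Matrix.det_pow]
    have h0 : ((g : K) : Matrix (Fin 3) (Fin 3) F).det ≠ 0 := det_ne_zero hK g.ne_zero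
    have := FiniteField.pow_card_sub_one_eq_one _ h0
    rwa [hm, Nat.add_sub_cancel] at this
  have hns : ∀ n, n ∣ 72 → ¬ IsScal ((unit hK hk0 ^ n : GL (Fin 3) F) : Matrix (Fin 3) (Fin 3) F) := by
    rintro n hn ⟨a, ha⟩
    have hc : (a : F) ^ 3 = 1 := by
      have := congrArg Matrix.det ha
      rw [Units.val_pow_eq_pow_val, Matrix.det_pow, unit_val, hdet, one_pow, Matrix.det_smul, Matrix.det_one,
        mul_one, Fintype.card_fin] at this
      exact this.symm
    have h3 : (g ^ m) ^ (n * 3) = 1 := Units.ext (Subtype.ext (by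
      rw [Units.val_one, Subalgebra.coe_one, Units.val_pow_eq_pow_val, SubmonoidClass.coe_pow, pow_mul,
        ← unit_val hK hk0, ← Units.val_pow_eq_pow_val, ha, smul_pow, one_pow, hc, one_smul]))
    rw [← pow_mul, ← orderOf_dvd_iff_pow_eq_one, ho, mul_comm m] at h3
    have hvd : v ∣ 216 := (Nat.dvd_of_mul_dvd_mul_right hm0 h3).trans (Nat.mul_dvd_mul hn (dvd_refl 3))
    have hv3 : ¬ 9 ∣ v := fun h => by
      have : (v : ZMod 9) = 0 := (ZMod.natCast_eq_zero_iff v 9).2 (by simpa using h)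
      rw [hv] at this
      push_cast at this
      generalize (Fintype.card F : ZMod 9) = t at this
      revert t
      decide
    have hv2 : ¬ 2 ∣ v := by
      intro h
      have h2 : Fintype.card F ^ 2 % 2 = Fintype.card F % 2 := by
        rcases Nat.mod_two_eq_zero_or_one (Fintype.card F) with h | h <;> simp [Nat.pow_mod, h]
      omega
    have hv7 : 7 ≤ v := by rw [hv, hm]; nlinarith
    have hv216 := Nat.le_of_dvd (by norm_num) hvd
    interval_cases v <;> omega
  refine ⟨unit hK hk0, MonoidHom.mem_ker.2 (Units.ext ?_), ((g ^ m : Kˣ) : K).2, hns, fun n hn W h0 h1 h => hns n hn ?_⟩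
  · rw [Matrix.GeneralLinearGroup.val_det_apply, unit_val, hdet, Units.val_one]
  · have := isScal_of_stab hK (k := ((g ^ m : Kˣ) : K) ^ n) h0 h1 fun w hw => by
      have := h w hw
      rwa [act_apply, Units.val_pow_eq_pow_val, unit_val, ← SubmonoidClass.coe_pow] at this
    rwa [SubmonoidClass.coe_pow, ← unit_val hK hk0, ← Units.val_pow_eq_pow_val] at this

end Cfsg.Agent.MaxCl.SLThree.Cubic
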