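/-
A solvable non-scalar normal subgroup of a group containing the norm-one elements of a cubic field: the last
non-scalar derived term is abelian and lies in the field, so the group normalises the field.
-/
import Cfsg.Agent.Lib.MaxCl.SLThree.Cubic.Solv

set_option autoImplicit false
set_option linter.unusedSectionVars false

namespace Cfsg.Agent.MaxCl.SLThree.Cubic

open scoped MatrixGroups Matrix commutatorElement
open Module (finrank)

variable {F : Type*} [Field F] [Fintype F]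

theorem isScal_mul_left {g : GL (Fin 3) F} {a : F} {A : Matrix (Fin 3) (Fin 3) F}
    (h : (g : Matrix (Fin 3) (Fin 3) F) * A = a • (1 : Matrix (Fin 3) (Fin 3) F)) :
    A = a • ((g⁻¹ : GL (Fin 3) F) : Matrix (Fin 3) (Fin 3) F) := by
  have := congrArg (fun B => ((g⁻¹ : GL (Fin 3) F) : Matrix (Fin 3) (Fin 3) F) * B) h
  simpa [← mul_assoc] using this

theorem cj_inv_smul {g h : GL (Fin 3) F} {s : F}
    (e : cj g (h : Matrix (Fin 3) (Fin 3) F) = s • (h : Matrix (Fin 3) (Fin 3) F)) :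
    cj g ((h⁻¹ : GL (Fin 3) F) : Matrix (Fin 3) (Fin 3) F) = s⁻¹ • ((h⁻¹ : GL (Fin 3) F) : Matrix (Fin 3) (Fin 3) F) := by
  have h1 : cj g (h : Matrix (Fin 3) (Fin 3) F) * cj g ((h⁻¹ : GL (Fin 3) F) : Matrix (Fin 3) (Fin 3) F) = 1 := by
    rw [← cj_mul, ← Units.val_mul, mul_inv_cancel, Units.val_one]
    simp [cj]
  rw [e, smul_mul_assoc] at h1
  have hs : s ≠ 0 := by rintro rfl; simp at h1
  have := congrArg (fun B => (s⁻¹ : F) • ((h⁻¹ : GL (Fin 3) F) : Matrix (Fin 3) (Fin 3) F) * B) h1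
  simpa [smul_smul, hs, ← mul_assoc] using this

theorem mul_eq_one_comm_of_smul {s : F} (hs : s ≠ 0) {A B : Matrix (Fin 3) (Fin 3) F} (h : A * B = s • 1) :
    B * A = s • 1 := by
  have h1 : ((s⁻¹ : F) • A) * B = 1 := by rw [smul_mul_assoc, h, smul_smul, inv_mul_cancel₀ hs, one_smul]
  have h2 := congrArg (fun C => s • C) (mul_eq_one_comm.1 h1)
  simpa [smul_smul, hs] using h2

/-- Three powers of an invertible matrix twisted by a primitive cube root of unity are independent. -/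
theorem coeff_eq_zero {w : F} (hw : w ^ 2 + w + 1 = 0) (h3 : (3 : F) ≠ 0) {g : GL (Fin 3) F}
    {A B C : Matrix (Fin 3) (Fin 3) F} (hA : cj g A = A) (hB : cj g B = w • B) (hC : cj g C = (w ^ 2) • C)
    (h : A + B + C = 0) : A = 0 ∧ B = 0 ∧ C = 0 := by
  have hadd : ∀ P Q : Matrix (Fin 3) (Fin 3) F, cj g (P + Q) = cj g P + cj g Q := fun P Q => by
    simp [cj, mul_add, add_mul]
  have h1 : A + w • B + (w ^ 2) • C = 0 := by
    rw [← hA, ← hB, ← hC, ← hadd, ← hadd, h]
    simp [cj]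
  have h2 : A + (w ^ 2) • B + w • C = 0 := by
    have := congrArg (cj g) h1
    rw [hadd, hadd, cj_smul, cj_smul, hA, hB, hC, smul_smul, smul_smul] at this
    rw [show w ^ 2 = w * w by ring, show w • C = (w ^ 2 * w ^ 2) • C by
      congr 1; linear_combination (-(w ^ 2) + w) * hw]
    simpa [cj] using this
  refine ⟨?_, ?_, ?_⟩
  · have e : (3 : F) • A = (A + B + C) + (A + w • B + (w ^ 2) • C) + (A + (w ^ 2) • B + w • C) := by
      linear_combination (norm := module) (-1 : F) • congrArg (fun t : F => t • (B + C)) hw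
    rw [h, h1, h2, add_zero, add_zero, smul_eq_zero] at e
    exact e.resolve_left h3
  · have e : (3 : F) • B = (A + B + C) + (w ^ 2) • (A + w • B + (w ^ 2) • C) + w • (A + (w ^ 2) • B + w • C) := by
      linear_combination (norm := module) (-1 : F) • congrArg (fun t : F => t • A) hw +
        (-1 : F) • congrArg (fun t : F => (t * (2 * (w - 1))) • B) hw +
        (-1 : F) • congrArg (fun t : F => (t * (w ^ 2 - w + 1)) • C) hw
    rw [h, h1, h2, smul_zero, smul_zero, add_zero, add_zero, smul_eq_zero] at e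
    exact e.resolve_left h3
  · have e : (3 : F) • C = (A + B + C) + w • (A + w • B + (w ^ 2) • C) + (w ^ 2) • (A + (w ^ 2) • B + w • C) := by
      linear_combination (norm := module) (-1 : F) • congrArg (fun t : F => t • A) hw +
        (-1 : F) • congrArg (fun t : F => (t * (w ^ 2 - w + 1)) • B) hw +
        (-1 : F) • congrArg (fun t : F => (t * (2 * (w - 1))) • C) hw
    rw [h, h1, h2, smul_zero, smul_zero, add_zero, add_zero, smul_eq_zero] at e
    exact e.resolve_left h3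

/-- Two matrices with a non-trivial cube root as commutator have scalar centraliser. -/
theorem isScal_of_commute {w : F} (hw : w ^ 2 + w + 1 = 0) (h3 : (3 : F) ≠ 0) {x y : GL (Fin 3) F}
    (hxy : cj x (y : Matrix (Fin 3) (Fin 3) F) = w • (y : Matrix (Fin 3) (Fin 3) F))
    {A : Matrix (Fin 3) (Fin 3) F} (hx : cj x A = A) (hy : cj y A = A) : IsScal A := by
  have hw3 : w ^ 3 = 1 := by linear_combination (w - 1) * hw
  have hxx : cj x (x : Matrix (Fin 3) (Fin 3) F) = x := cj_eq_iff.2 rfl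
  have hyy : cj y (y : Matrix (Fin 3) (Fin 3) F) = y := cj_eq_iff.2 rfl
  have hyx : cj y (x : Matrix (Fin 3) (Fin 3) F) = (w ^ 2) • (x : Matrix (Fin 3) (Fin 3) F) := by
    have h : (x : Matrix (Fin 3) (Fin 3) F) * y = w • ((y : Matrix (Fin 3) (Fin 3) F) * x) := by
      rw [cj] at hxy
      have := congrArg (fun B => B * (x : Matrix (Fin 3) (Fin 3) F)) hxy
      simpa [mul_assoc] using this
    rw [cj, show (y : Matrix (Fin 3) (Fin 3) F) * x = (w ^ 2) • ((x : Matrix (Fin 3) (Fin 3) F) * y) by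
      rw [h, smul_smul, ← pow_succ, hw3, one_smul], smul_mul_assoc, mul_assoc, ← Units.val_mul, mul_inv_cancel,
      Units.val_one, mul_one]
  obtain ⟨X, hX⟩ : ∃ X : Fin 3 × Fin 3 → Matrix (Fin 3) (Fin 3) F,
      ∀ p, X p = (x : Matrix (Fin 3) (Fin 3) F) ^ (p.1 : ℕ) * (y : Matrix (Fin 3) (Fin 3) F) ^ (p.2 : ℕ) :=
    ⟨_, fun p => rfl⟩
  have hli : LinearIndependent F X := by
    rw [Fintype.linearIndependent_iff]
    intro g hg
    obtain ⟨S, hS⟩ : ∃ S : Fin 3 → Matrix (Fin 3) (Fin 3) F,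
        ∀ j, S j = g (0, j) • 1 + g (1, j) • (x : Matrix (Fin 3) (Fin 3) F) +
          g (2, j) • ((x : Matrix (Fin 3) (Fin 3) F) * x) := ⟨_, fun j => rfl⟩
    have hadd : ∀ (h : GL (Fin 3) F) (P Q : Matrix (Fin 3) (Fin 3) F), cj h (P + Q) = cj h P + cj h Q :=
      fun h P Q => by simp [cj, mul_add, add_mul]
    have hxS : ∀ j, cj x (S j) = S j := fun j => by
      rw [hS, hadd, hadd, cj_smul, cj_smul, cj_smul, cj_mul, hxx]
      simp [cj]
    simp only [Fintype.sum_prod_type, Fin.sum_univ_three, hX, Fin.val_zero, Fin.val_one, Fin.val_two, pow_zero,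
      pow_one, pow_two, one_mul, mul_one] at hg
    have hsum : S 0 + S 1 * (y : Matrix (Fin 3) (Fin 3) F) +
        S 2 * ((y : Matrix (Fin 3) (Fin 3) F) * y) = 0 := by
      rw [← hg, hS, hS, hS]
      simp only [add_mul, smul_mul_assoc, one_mul]
      module
    obtain ⟨e0, e1, e2⟩ := coeff_eq_zero hw h3 (hxS 0) (by rw [cj_mul, hxS, hxy, mul_smul_comm])
      (by rw [cj_mul, hxS, cj_mul, hxy, smul_mul_smul_comm, ← pow_two, mul_smul_comm]) hsum
    have hS0 : ∀ j, S j = 0 := by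
      intro j
      obtain rfl | rfl | rfl : j = 0 ∨ j = 1 ∨ j = 2 := by clear hxS e0 e1 e2 hsum; revert j; decide
      · exact e0
      · have := congrArg (fun B => B * ((y⁻¹ : GL (Fin 3) F) : Matrix (Fin 3) (Fin 3) F)) e1
        simpa [mul_assoc] using this
      · have := congrArg (fun B => B * ((y⁻¹ * y⁻¹ : GL (Fin 3) F) : Matrix (Fin 3) (Fin 3) F)) e2
        simpa [mul_assoc] using this
    have hx0 : (x : Matrix (Fin 3) (Fin 3) F) ≠ 0 := x.ne_zero
    have hx20 : (x : Matrix (Fin 3) (Fin 3) F) * x ≠ 0 := by rw [← Units.val_mul]; exact (x * x).ne_zero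
    have hj : ∀ j, g (0, j) = 0 ∧ g (1, j) = 0 ∧ g (2, j) = 0 := by
      intro j
      obtain ⟨a, b, d⟩ := coeff_eq_zero (w := w ^ 2) (by linear_combination (w ^ 2 - w + 1) * hw) h3 (g := y)
        (A := g (0, j) • 1) (B := g (1, j) • (x : Matrix (Fin 3) (Fin 3) F))
        (C := g (2, j) • ((x : Matrix (Fin 3) (Fin 3) F) * x)) (cj_scalar _ _)
        (by rw [cj_smul, hyx, smul_comm]) (by rw [cj_smul, cj_mul, hyx, smul_mul_smul_comm, smul_comm, ← pow_two])
        ((hS j).symm.trans (hS0 j))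
      exact ⟨(smul_eq_zero.1 a).resolve_right one_ne_zero, (smul_eq_zero.1 b).resolve_right hx0,
        (smul_eq_zero.1 d).resolve_right hx20⟩
    rintro ⟨i, j⟩
    obtain ⟨a, b, d⟩ := hj j
    obtain rfl | rfl | rfl : i = 0 ∨ i = 1 ∨ i = 2 := by clear hg; revert i; decide
    exacts [a, b, d]
  have htop := hli.span_eq_top_of_card_eq_finrank (by simp [Module.finrank_matrix])
  have hcx : A * (x : Matrix (Fin 3) (Fin 3) F) = x * A := (cj_eq_iff.1 hx).symm
  have hcy : A * (y : Matrix (Fin 3) (Fin 3) F) = y * A := (cj_eq_iff.1 hy).symm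
  have hall : ∀ B : Matrix (Fin 3) (Fin 3) F, A * B = B * A := by
    intro B
    have hB : B ∈ Submodule.span F (Set.range X) := htop ▸ trivial
    induction hB using Submodule.span_induction with
    | mem B hB =>
      obtain ⟨p, rfl⟩ := hB
      rw [hX]
      exact (Commute.mul_right (Commute.pow_right hcx _) (Commute.pow_right hcy _)).eq
    | zero => simp
    | add B B' _ _ h h' => rw [mul_add, add_mul, h, h']
    | smul s B _ h => rw [mul_smul_comm, smul_mul_assoc, h]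
  obtain ⟨a, ha⟩ := Matrix.mem_range_scalar_iff_commute_single'.2 fun i j => (hall _).symm
  exact ⟨a, by rw [← ha]; ext i j; simp [Matrix.scalar_apply, Matrix.diagonal_apply, Matrix.one_apply]⟩

/-- The classes of non-zero pairs up to sign. -/
def pairClass (p : ZMod 3 × ZMod 3) : Fin 4 :=
  if p.1 = 0 then 0 else if p.2 = 0 then 1 else if p.1 = p.2 then 2 else 3

theorem pairClass_eq : ∀ p q : ZMod 3 × ZMod 3, p ≠ 0 → q ≠ 0 → pairClass p = pairClass q → q = p ∨ q = -p := by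
  decide

variable {D : Subgroup (GL (Fin 3) F)}

/-- An element of a group with scalar commutators commutes with a small power of the field element. -/
theorem exists_pow_commute' {c x y : GL (Fin 3) F}
    (hcom : ∀ g ∈ D, ∀ h ∈ D, ∃ s : F, s ^ 3 = 1 ∧ cj g (h : Matrix (Fin 3) (Fin 3) F) = s • (h : Matrix (Fin 3) (Fin 3) F))
    (hdet : ∀ g ∈ D, ((g : GL (Fin 3) F) : Matrix (Fin 3) (Fin 3) F).det = 1)
    (hc : ∀ g ∈ D, c * g * c⁻¹ ∈ D) (hx : x ∈ D) (hy : y ∈ D)
    (hne : (x : Matrix (Fin 3) (Fin 3) F) * y ≠ y * x) :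
    ∃ n, n ∣ 72 ∧ cj (c ^ n) (x : Matrix (Fin 3) (Fin 3) F) = x := by
  obtain ⟨w, hw3, hw⟩ := hcom x hx y hy
  have hw1 : w ≠ 1 := fun h => hne (cj_eq_iff.1 (by rw [hw, h, one_smul]))
  have hw' : w ^ 2 + w + 1 = 0 := by
    have : (w - 1) * (w ^ 2 + w + 1) = 0 := by linear_combination hw3
    exact (mul_eq_zero.1 this).resolve_left (sub_ne_zero.2 hw1)
  have h3 : (3 : F) ≠ 0 := by
    intro h
    have : (w - 1) ^ 2 = 0 := by linear_combination hw' - w * h
    exact hw1 (sub_eq_zero.1 ((pow_eq_zero_iff (two_ne_zero)).1 this))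
  obtain ⟨P, hP⟩ : ∃ P : ZMod 3 → F, ∀ i, P i = w ^ i.val := ⟨_, fun i => rfl⟩
  have hPadd : ∀ i j, P (i + j) = P i * P j := fun i j => by
    rw [hP, hP, hP, ← pow_add, ZMod.val_add, ← pow_eq_pow_mod (i.val + j.val) hw3]
  have hroot : ∀ s : F, s ^ 3 = 1 → ∃ i, P i = s := by
    intro s hs
    have : (s - 1) * ((s - w) * (s - w ^ 2)) = 0 := by
      linear_combination hs + (-s ^ 2 + w * s - w + 1) * hw'
    rcases mul_eq_zero.1 this with h | h
    · exact ⟨0, by simp [hP, sub_eq_zero.1 h]⟩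
    rcases mul_eq_zero.1 h with h | h
    · exact ⟨1, by simp [hP, sub_eq_zero.1 h, ZMod.val_one]⟩
    · exact ⟨2, by rw [hP, sub_eq_zero.1 h]; rfl⟩
  have hex : ∀ g : GL (Fin 3) F, g ∈ D → ∀ h ∈ D, ∃ i, cj h (g : Matrix (Fin 3) (Fin 3) F) = P i • (g : Matrix (Fin 3) (Fin 3) F) :=
    fun g hg h hh => by
      obtain ⟨s, hs, e⟩ := hcom h hh g hg
      obtain ⟨i, rfl⟩ := hroot s hs
      exact ⟨i, e⟩
  have hzero : ∀ g : GL (Fin 3) F, cj x (g : Matrix (Fin 3) (Fin 3) F) = g → cj y (g : Matrix (Fin 3) (Fin 3) F) = g →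
      IsScal (g : Matrix (Fin 3) (Fin 3) F) := fun g => isScal_of_commute hw' h3 hw
  have hxns : ∀ i : ℕ, ¬ IsScal ((c ^ i * x * (c ^ i)⁻¹ : GL (Fin 3) F) : Matrix (Fin 3) (Fin 3) F) := by
    rintro i ⟨a, ha⟩
    have e : cj (c ^ i) (x : Matrix (Fin 3) (Fin 3) F) = a • 1 := by rw [← ha]; simp [cj]
    have := congrArg (cj (c ^ i)⁻¹) e
    rw [cj_cj, inv_mul_cancel, cj_one, cj_scalar] at this
    exact hne (by rw [this]; simp)
  have hmem : ∀ i : ℕ, c ^ i * x * (c ^ i)⁻¹ ∈ D := by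
    intro i
    induction i with
    | zero => simpa using hx
    | succ i ih => convert hc _ ih using 1; rw [pow_succ']; group
  choose a ha using fun i => hex _ (hmem i) x hx
  choose b hb using fun i => hex _ (hmem i) y hy
  have hP0 : P 0 = 1 := by simp [hP]
  have hnz : ∀ i, (a i, b i) ≠ 0 := fun i h => by
    simp only [Prod.mk_eq_zero] at h
    exact hxns i (hzero _ (by rw [ha, h.1, hP0, one_smul]) (by rw [hb, h.2, hP0, one_smul]))
  classical
  obtain ⟨i, hi, j, hj, hij, he⟩ := Finset.exists_ne_map_eq_of_card_lt_of_maps_to (s := Finset.range 5)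
    (t := (Finset.univ : Finset (Fin 4))) (f := fun i => pairClass (a i, b i)) (by simp)
    (fun _ _ => Finset.mem_univ _)
  rw [Finset.mem_range] at hi hj
  clear hx hy
  wlog hlt : i < j generalizing i j
  · exact this j hj i hi hij.symm he.symm (by omega)
  obtain ⟨d, rfl⟩ : ∃ d, j = i + d := ⟨j - i, by omega⟩
  obtain ⟨X, hX⟩ : ∃ X : ℕ → Matrix (Fin 3) (Fin 3) F,
      ∀ k, X k = ((c ^ k * x * (c ^ k)⁻¹ : GL (Fin 3) F) : Matrix (Fin 3) (Fin 3) F) := ⟨_, fun k => rfl⟩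
  have hXc : ∀ k, X k = cj (c ^ k) (x : Matrix (Fin 3) (Fin 3) F) := fun k => by rw [hX]; simp [cj]
  have hXd : X (i + d) = cj (c ^ i) (X d) := by rw [hXc, hXc, cj_cj, pow_add]
  -- two steps
  have hstep : ∃ s : F, cj (c ^ (2 * d)) (x : Matrix (Fin 3) (Fin 3) F) = s • (x : Matrix (Fin 3) (Fin 3) F) := by
    rcases pairClass_eq _ _ (hnz i) (hnz (i + d)) he with e | e
    · simp only [Prod.mk.injEq] at e
      obtain ⟨s, hs⟩ := hzero ((c ^ (i + d) * x * (c ^ (i + d))⁻¹) * (c ^ i * x * (c ^ i)⁻¹)⁻¹) (by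
          rw [Units.val_mul, cj_mul, ha, e.1, show cj x ((((c ^ i * x * (c ^ i)⁻¹)⁻¹ : GL (Fin 3) F)) :
            Matrix (Fin 3) (Fin 3) F) = (P (a i))⁻¹ • (((c ^ i * x * (c ^ i)⁻¹)⁻¹ : GL (Fin 3) F) :
              Matrix (Fin 3) (Fin 3) F) from cj_inv_smul (ha i), smul_mul_smul_comm,
            mul_inv_cancel₀ (by rw [hP]; exact pow_ne_zero _ (fun h => by simp [h] at hw')), one_smul]) (by
          rw [Units.val_mul, cj_mul, hb, e.2, show cj y ((((c ^ i * x * (c ^ i)⁻¹)⁻¹ : GL (Fin 3) F)) :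
            Matrix (Fin 3) (Fin 3) F) = (P (b i))⁻¹ • (((c ^ i * x * (c ^ i)⁻¹)⁻¹ : GL (Fin 3) F) :
              Matrix (Fin 3) (Fin 3) F) from cj_inv_smul (hb i), smul_mul_smul_comm,
            mul_inv_cancel₀ (by rw [hP]; exact pow_ne_zero _ (fun h => by simp [h] at hw')), one_smul])
      have h1 : X (i + d) = s • X i := by
        have := congrArg (fun B => B * X i) hs
        rw [hX i] at this
        simp only [Units.val_mul, mul_assoc, ← hX, smul_mul_assoc, one_mul] at this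
        rw [hX i, hX (i + d)]
        simpa [mul_assoc] using this
      have h2 : cj (c ^ d) (x : Matrix (Fin 3) (Fin 3) F) = s • (x : Matrix (Fin 3) (Fin 3) F) := by
        have := congrArg (cj (c ^ i)⁻¹) h1
        rwa [hXd, cj_smul, hXc i, cj_cj, cj_cj, inv_mul_cancel, cj_one, cj_one, hXc] at this
      exact ⟨s * s, by rw [two_mul, pow_add, ← cj_cj, h2, cj_smul, h2, smul_smul]⟩
    · simp only [Prod.neg_mk, Prod.mk.injEq] at e
      obtain ⟨s, hs⟩ := hzero ((c ^ (i + d) * x * (c ^ (i + d))⁻¹) * (c ^ i * x * (c ^ i)⁻¹)) (by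
          rw [Units.val_mul, cj_mul, ha, ha, e.1, smul_mul_smul_comm, ← hPadd, neg_add_cancel, hP0, one_smul]) (by
          rw [Units.val_mul, cj_mul, hb, hb, e.2, smul_mul_smul_comm, ← hPadd, neg_add_cancel, hP0, one_smul])
      have h1 : X (i + d) * X i = s • 1 := by rw [hX, hX, ← Units.val_mul]; exact hs
      have h2 : cj (c ^ d) (x : Matrix (Fin 3) (Fin 3) F) * x = s • 1 := by
        have := congrArg (cj (c ^ i)⁻¹) h1
        rwa [cj_mul, hXd, cj_scalar, hXc i, cj_cj, cj_cj, inv_mul_cancel, cj_one, cj_one, hXc] at this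
      obtain ⟨u, hu⟩ : ∃ u : Matrix (Fin 3) (Fin 3) F, u = cj (c ^ d) (x : Matrix (Fin 3) (Fin 3) F) := ⟨_, rfl⟩
      rw [← hu] at h2
      have h4 : cj (c ^ d) u * u = s • 1 := by
        conv_rhs => rw [← cj_scalar (c ^ d) s, ← h2, cj_mul]
        rw [← hu]
      refine ⟨1, ?_⟩
      rw [two_mul, pow_add, ← cj_cj, ← hu, one_smul]
      have hs0 : s ≠ 0 := by
        rintro rfl
        have := congrArg Matrix.det h1
        rw [hX, hX, Matrix.det_mul, hdet _ (hmem _), hdet _ (hmem _)] at this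
        simp at this
      have h5 : u * (x : Matrix (Fin 3) (Fin 3) F) = x * u := by
        rw [h2, mul_eq_one_comm_of_smul hs0 h2]
      calc cj (c ^ d) u = s⁻¹ • (cj (c ^ d) u * (u * (x : Matrix (Fin 3) (Fin 3) F))) := by
            rw [h2, mul_smul_comm, mul_one, smul_smul, inv_mul_cancel₀ hs0, one_smul]
        _ = (x : Matrix (Fin 3) (Fin 3) F) := by
            rw [← mul_assoc, h4, smul_mul_assoc, one_mul, smul_smul, inv_mul_cancel₀ hs0, one_smul]
  obtain ⟨s, hs⟩ := hstep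
  have hs3 : s ^ 3 = 1 := by
    have := congrArg Matrix.det hs
    rw [cj, Matrix.det_mul, Matrix.det_mul, mul_comm (Matrix.det _) (Matrix.det _), mul_assoc, ← Matrix.det_mul,
      ← Units.val_mul, mul_inv_cancel, Units.val_one, Matrix.det_one, mul_one, Matrix.det_smul, Fintype.card_fin] at this
    have h0 : ((x : GL (Fin 3) F) : Matrix (Fin 3) (Fin 3) F).det ≠ 0 := (Matrix.isUnit_iff_isUnit_det _).1 x.isUnit |>.ne_zero
    exact mul_right_cancel₀ h0 (this.symm.trans (one_mul _).symm)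
  refine ⟨2 * d * 3, ?_, ?_⟩
  · have : d ≤ 4 := by omega
    have : 1 ≤ d := by omega
    interval_cases d <;> norm_num
  · rw [show 2 * d * 3 = 2 * d + (2 * d + 2 * d) by ring, pow_add, pow_add, ← cj_cj, ← cj_cj, hs, cj_smul, hs,
      smul_smul, cj_smul, hs, smul_smul, ← pow_two, ← pow_succ, hs3, one_smul]

/-- The last non-scalar derived term. -/
theorem exists_last_derived {M O : Subgroup (GL (Fin 3) F)} (hn : ∀ m ∈ M, ∀ o ∈ O, m * o * m⁻¹ ∈ O)
    (hsol : Group.IsSolvable O) (hex : ∃ o ∈ O, ¬ IsScal ((o : GL (Fin 3) F) : Matrix (Fin 3) (Fin 3) F)) :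
    ∃ D : Subgroup (GL (Fin 3) F), D ≤ O ∧ (∀ m ∈ M, ∀ o ∈ D, m * o * m⁻¹ ∈ D) ∧
      (∃ o ∈ D, ¬ IsScal ((o : GL (Fin 3) F) : Matrix (Fin 3) (Fin 3) F)) ∧
      ∀ g ∈ D, ∀ h ∈ D, IsScal ((⁅g, h⁆ : GL (Fin 3) F) : Matrix (Fin 3) (Fin 3) F) := by
  classical
  obtain ⟨E, hE⟩ : ∃ E : ℕ → Subgroup (GL (Fin 3) F), ∀ n, E n = (derivedSeries O n).map O.subtype :=
    ⟨_, fun n => rfl⟩
  have hE0 : E 0 = O := by rw [hE, derivedSeries_zero, ← MonoidHom.range_eq_map, Subgroup.range_subtype]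
  have hsucc : ∀ n, E (n + 1) = ⁅E n, E n⁆ := fun n => by rw [hE, hE, derivedSeries_succ, Subgroup.map_commutator]
  have hle : ∀ n, E n ≤ O := fun n => by rw [hE]; exact Subgroup.map_subtype_le _
  have hnorm : ∀ n, ∀ m ∈ M, ∀ o ∈ E n, m * o * m⁻¹ ∈ E n := by
    intro n
    induction n with
    | zero => rw [hE0]; exact hn
    | succ n ih =>
      intro m hm o ho
      have h1 : (E (n + 1)).map (MulAut.conj m).toMonoidHom ≤ E (n + 1) := by
        rw [hsucc, Subgroup.map_commutator]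
        refine Subgroup.commutator_mono ?_ ?_ <;> rintro _ ⟨a, ha, rfl⟩ <;> exact ih m hm a ha
      exact h1 ⟨o, ho, rfl⟩
  obtain ⟨n, hbot⟩ := (Group.isSolvable_def _).1 hsol
  have hall : ∃ n, ∀ o ∈ E n, IsScal ((o : GL (Fin 3) F) : Matrix (Fin 3) (Fin 3) F) := by
    refine ⟨n, fun o ho => ?_⟩
    rw [hE, hbot, Subgroup.map_bot, Subgroup.mem_bot] at ho
    exact ⟨1, by simp [ho]⟩
  have hspec := Nat.find_spec hall
  obtain ⟨i, hi⟩ : ∃ i, Nat.find hall = i + 1 := by
    refine ⟨Nat.find hall - 1, (Nat.succ_pred_eq_of_pos (Nat.pos_of_ne_zero fun h => ?_)).symm⟩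
    obtain ⟨o, ho, hns⟩ := hex
    exact hns (hspec o (by rw [h, hE0]; exact ho))
  have hmin := Nat.find_min hall (show i < Nat.find hall by omega)
  push Not at hmin
  rw [hi, hsucc] at hspec
  exact ⟨E i, hle i, hnorm i, hmin, fun g hg h hh => hspec _ (Subgroup.commutator_mem_commutator hg hh)⟩

variable {K : Subalgebra F (Matrix (Fin 3) (Fin 3) F)} (hK : Cfsg.Geo.IsFieldSubalgebra 3 K)
include hK

/-- A solvable non-scalar normal subgroup puts the group into the normaliser of the field. -/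
theorem le_normalizer_of_solvable {M O : Subgroup (GL (Fin 3) F)} (hMS : M ≤ Cfsg.Geo.specialLinear (Fin 3) F)
    (hC : ∀ g ∈ Cfsg.Geo.specialLinear (Fin 3) F, (g : Matrix (Fin 3) (Fin 3) F) ∈ K → g ∈ M)
    (hOM : O ≤ M) (hn : ∀ m ∈ M, ∀ o ∈ O, m * o * m⁻¹ ∈ O) (hsol : Group.IsSolvable O)
    (hex : ∃ o ∈ O, ¬ IsScal ((o : GL (Fin 3) F) : Matrix (Fin 3) (Fin 3) F)) :
    M ≤ Cfsg.Geo.subalgebraNormalizer K := by
  obtain ⟨D, hDO, hDn, ⟨x, hx, hxns⟩, hDc⟩ := exists_last_derived hn hsol hex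
  obtain ⟨c, hc1, hc2, hc3, hirr⟩ := exists_irr hK
  have hcM : c ∈ M := hC c hc1 hc2
  have hdet : ∀ g ∈ M, ((g : GL (Fin 3) F) : Matrix (Fin 3) (Fin 3) F).det = 1 := fun g hg => by
    rw [← Matrix.GeneralLinearGroup.val_det_apply, MonoidHom.mem_ker.1 (hMS hg), Units.val_one]
  -- an element commuting with a small power lies in the field
  have hin : ∀ (g : GL (Fin 3) F) (n : ℕ), n ∣ 72 → cj (c ^ n) (g : Matrix (Fin 3) (Fin 3) F) = g →
      (g : Matrix (Fin 3) (Fin 3) F) ∈ K := fun g n hn h => by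
    have hk : ((c ^ n : GL (Fin 3) F) : Matrix (Fin 3) (Fin 3) F) ∈ K := by
      rw [Units.val_pow_eq_pow_val]; exact Subalgebra.pow_mem K hc2 n
    exact mem_of_commute hK (k := ⟨_, hk⟩) (hc3 n hn) (cj_eq_iff.1 h).symm
  have hcom : ∀ g ∈ D, ∀ h ∈ D, ∃ s : F, s ^ 3 = 1 ∧
      cj g (h : Matrix (Fin 3) (Fin 3) F) = s • (h : Matrix (Fin 3) (Fin 3) F) := by
    intro g hg h hh
    obtain ⟨s, hs⟩ := hDc g hg h hh
    refine ⟨s, ?_, ?_⟩
    · have := congrArg Matrix.det hs
      rw [Matrix.det_smul, Matrix.det_one, mul_one, Fintype.card_fin, hdet _ (by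
        rw [commutatorElement_def]
        exact M.mul_mem (M.mul_mem (M.mul_mem (hOM (hDO hg)) (hOM (hDO hh))) (M.inv_mem (hOM (hDO hg))))
          (M.inv_mem (hOM (hDO hh))))] at this
      exact this.symm
    · have := congrArg (fun B => B * (h : Matrix (Fin 3) (Fin 3) F)) hs
      simpa [commutatorElement_def, cj, mul_assoc] using this
  have hab : ∀ g ∈ D, ∀ h ∈ D, (g : Matrix (Fin 3) (Fin 3) F) * h = (h : Matrix (Fin 3) (Fin 3) F) * g := by
    intro g hg h hh
    by_contra hne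
    have hd : ∀ g ∈ D, ((g : GL (Fin 3) F) : Matrix (Fin 3) (Fin 3) F).det = 1 := fun g hg => hdet g (hOM (hDO hg))
    obtain ⟨n, hn, e⟩ := exists_pow_commute' hcom hd (hDn c hcM) hg hh hne
    obtain ⟨m, hm, e'⟩ := exists_pow_commute' hcom hd (hDn c hcM) hh hg (Ne.symm hne)
    exact hne (hK.comm _ (hin g n hn e) _ (hin h m hm e'))
  have hxi : ∀ i : ℕ, c ^ i * x * (c ^ i)⁻¹ ∈ D := fun i => hDn _ (M.pow_mem hcM i) x hx
  have hxK : (x : Matrix (Fin 3) (Fin 3) F) ∈ K := by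
    obtain ⟨n, hn, e⟩ := exists_pow_commute hirr hxns fun i j => by simpa [cj] using hab _ (hxi i) _ (hxi j)
    exact hin x n hn e
  intro m hm
  have hconj : cj m (x : Matrix (Fin 3) (Fin 3) F) ∈ K := by
    refine mem_of_commute hK (k := ⟨_, hxK⟩) hxns ?_
    have := hab _ (hDn m hm x hx) x hx
    simpa [cj] using this
  let S : Subalgebra F K :=
    { carrier := {k | cj m (k : Matrix (Fin 3) (Fin 3) F) ∈ K}
      mul_mem' := fun {a b} ha hb => by
        show cj m _ ∈ K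
        rw [Subalgebra.coe_mul, cj_mul]; exact K.mul_mem ha hb
      add_mem' := fun {a b} ha hb => by
        show cj m _ ∈ K
        rw [Subalgebra.coe_add, show cj m ((a : Matrix (Fin 3) (Fin 3) F) + b) = cj m a + cj m b by
          simp [cj, mul_add, add_mul]]
        exact K.add_mem ha hb
      algebraMap_mem' := fun a => by
        show cj m _ ∈ K
        rw [show ((algebraMap F K a : K) : Matrix (Fin 3) (Fin 3) F) = a • 1 by
          simp [Algebra.algebraMap_eq_smul_one], cj_scalar]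
        exact K.smul_mem K.one_mem a }
  have hS := eq_top_of_mem hK (A := S) (k := ⟨_, hxK⟩) hconj hxns
  refine (ExtF.mem_normalizer_iff K m).2 fun k => ⟨⟨_, (hS ▸ Algebra.mem_top : k ∈ S)⟩, fun v => ?_⟩
  exact (cj_mulVec m _ v).symm

end Cfsg.Agent.MaxCl.SLThree.Cubic
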